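import Cfsg.Agent.Lib.Linear.MinIndexSpTwo.Small

/-!
# The stabiliser of a quadratic form of minus type

The forms with polar form `B` and of minus type form one orbit of `2 ^ (2m - 1) - 2 ^ (m - 1)` elements.
-/

set_option autoImplicit false
set_option linter.unusedSectionVars false

namespace Cfsg.Lib.Linear.MinIndexSpTwo

open Module

variable {F V : Type*} [Field F] [AddCommGroup V] [Module F V] {B : LinearMap.BilinForm F V} {m : ℕ}
  (C : Sp2 B m)
include C

theorem Sp2.card_V : Nat.card V = 2 ^ (2 * m) := by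
  rw [← C.dim, ← finrank_top F V, ← C.card_submodule, Nat.card_congr Submodule.topEquiv.toEquiv]

/-- A form of minus type yields a subgroup of the required index. -/
theorem Sp2.exists_index (f : V → F) (hf : ∀ a b, f (a + b) = f a + f b + B a b) :
    ∃ K : Subgroup (Symp.iso B), K.index + 2 ^ (m - 1) = 2 ^ (2 * m - 1) := by
  classical
  haveI := C.finite
  haveI := C.finiteDimensional
  haveI := Fintype.ofFinite V
  haveI := Fintype.ofFinite (⊤ : Submodule F V)
  have h2 := C.two_eq_zero
  -- the translate of minus type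
  have hsum : ∀ g : V → F, (∀ a b, g (a + b) = g a + g b + B a b) →
      (∑ a : V, chi (g a)) ^ 2 = (2 : ℤ) ^ (2 * m) ∧
        2 * (Nat.card {a : V // g a = 0} : ℤ) = 2 ^ (2 * m) + ∑ a : V, chi (g a) := by
    intro g hg
    have hg0 : g 0 = 0 := by
      have h := hg 0 0
      rw [add_zero, map_zero] at h
      linear_combination -h
    obtain ⟨e1, e2⟩ := C.sign_sum ⊤ ⊥ (fun a => chi (g a))
      (fun a _ => by rcases C.zero_or_one (g a) with h | h <;> simp [h, chi_zero, chi_one])
      (fun a _ b _ => by simp only [hg, C.chi_add])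
      bot_le (fun c hc a _ => by rw [(Submodule.mem_bot F).1 hc]; simp)
      (fun c hc => by rw [(Submodule.mem_bot F).1 hc, hg0, chi_zero])
      (fun c _ hc => by
        obtain ⟨a, -, ha⟩ := C.exists_sep ⊥ hc
        exact ⟨a, Submodule.mem_top, by rw [C.symm]; exact ha⟩)
    have hS : ∑ a : (⊤ : Submodule F V), chi (g a.1) = ∑ a : V, chi (g a) :=
      Equiv.sum_comp (Submodule.topEquiv (R := F) (M := V)).toEquiv fun a : V => chi (g a)
    have hT : Nat.card (⊤ : Submodule F V) = 2 ^ (2 * m) := by
      rw [Nat.card_congr Submodule.topEquiv.toEquiv, C.card_V]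
    have hz : Nat.card {a : (⊤ : Submodule F V) // chi (g a.1) = 1} = Nat.card {a : V // g a = 0} :=
      Nat.card_congr ((Submodule.topEquiv (R := F) (M := V)).toEquiv.subtypeEquiv fun a => by
        show chi (g a.1) = 1 ↔ g a.1 = 0
        rcases C.zero_or_one (g a.1) with h | h <;> rw [h] <;> simp [chi])
    rw [hS, hT] at e1 e2
    rw [hz] at e2
    rw [Nat.card_unique] at e1
    push_cast at e1 e2
    exact ⟨by simpa using e1, e2⟩
  set q : V → V → F := fun a x => f x + B a x with hq
  have hqform : ∀ a u w, q a (u + w) = q a u + q a w + B u w := fun a u w => by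
    simp only [hq, hf, map_add]; ring
  have hqsum : ∀ a, ∑ x : V, chi (q a x) = chi (f a) * ∑ x : V, chi (f x) := by
    intro a
    rw [← Equiv.sum_comp (Equiv.addLeft a) fun x => chi (f x), Finset.mul_sum]
    refine Finset.sum_congr rfl fun x _ => ?_
    rw [← C.chi_add]
    congr 1
    simp only [hq, Equiv.coe_addLeft, hf]
    linear_combination -(f a) * h2
  obtain ⟨c, hc⟩ : ∃ c, ∑ x : V, chi (q c x) = -(2 : ℤ) ^ m := by
    obtain ⟨e1, e2⟩ := hsum f hf
    rw [mul_comm 2 m, pow_mul] at e1
    rcases sq_eq_sq_iff_eq_or_eq_neg.1 e1 with h | h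
    · obtain ⟨c, hc⟩ : ∃ c, f c = 1 := by
        by_contra hno
        push Not at hno
        have h1 : ∀ x, chi (f x) = 1 := fun x => by
          rw [(C.zero_or_one (f x)).resolve_right (hno x), chi_zero]
        rw [Finset.sum_congr rfl (fun x _ => h1 x), Finset.sum_const, Finset.card_univ,
          ← Nat.card_eq_fintype_card, C.card_V, nsmul_eq_mul, mul_one] at h
        have h' : 2 ^ (2 * m) = 2 ^ m := by exact_mod_cast h
        have := Nat.pow_right_injective le_rfl h'
        have := C.hm
        omega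
      exact ⟨c, by rw [hqsum, hc, h, chi_one]; ring⟩
    · refine ⟨0, ?_⟩
      rw [← h]
      exact Finset.sum_congr rfl fun x _ => by simp [hq]
  obtain ⟨f1, hf1, hneg⟩ : ∃ f1 : V → F, (∀ a b, f1 (a + b) = f1 a + f1 b + B a b) ∧
      ∑ x : V, chi (f1 x) = -(2 : ℤ) ^ m := ⟨q c, hqform c, hc⟩
  letI : MulAction (Symp.iso B) (V → F) :=
    { smul := fun g h x => h ((g⁻¹).1 x)
      one_smul := fun h => funext fun x => by
        show h (((1 : Symp.iso B)⁻¹).1 x) = h x
        rw [inv_one]; rfl
      mul_smul := fun g k h => funext fun x => by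
        show h (((g * k)⁻¹).1 x) = h ((k⁻¹).1 ((g⁻¹).1 x))
        rw [mul_inv_rev]; rfl }
  have hsmul : ∀ (g : Symp.iso B) (h : V → F) x, (g • h) x = h ((g⁻¹).1 x) := fun _ _ _ => rfl
  have hτ : ∀ b a, (C.τ b • fun x => f1 x + B a x) =
      fun x => f1 x + B (if f1 b + B a b = 0 then a + b else a) x := by
    intro b a
    funext x
    rw [hsmul, C.τ_inv, C.τ_apply]
    have hf0 : f1 0 = 0 := by
      have h := hf1 0 0
      rw [add_zero, map_zero] at h
      linear_combination -h
    rcases C.zero_or_one (B x b) with hx | hx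
    · rw [hx, zero_smul, add_zero]
      split_ifs
      · rw [map_add, LinearMap.add_apply, C.symm b x, hx, add_zero]
      · rfl
    · rw [hx, one_smul, hf1, hx, map_add]
      split_ifs with h0
      · rw [map_add, LinearMap.add_apply, C.symm b x, hx]
        linear_combination h0
      · have h1 := (C.zero_or_one _).resolve_left h0
        linear_combination h1 + h2
  set O : Set (V → F) := Set.range fun a : {a : V // f1 a = 0} => fun x => f1 x + B a.1 x with hO
  have hOinv : ∀ (g : Symp.iso B), ∀ h ∈ O, g • h ∈ O := by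
    intro g
    have hg : g ∈ Subgroup.closure {g : Symp.iso B | ∃ v, v ≠ 0 ∧ g = C.τ v} := by
      rw [C.closure_τ]; exact Subgroup.mem_top g
    induction hg using Subgroup.closure_induction'' with
    | mem g hg =>
      obtain ⟨b, -, rfl⟩ := hg
      rintro _ ⟨a, rfl⟩
      rw [hτ]
      by_cases h0 : f1 b + B a.1 b = 0
      · refine ⟨⟨a.1 + b, by rw [hf1, a.2]; linear_combination h0⟩, ?_⟩
        funext x; rw [if_pos h0]
      · exact ⟨a, funext fun x => by rw [if_neg h0]⟩
    | inv_mem g hg =>
      obtain ⟨b, -, rfl⟩ := hg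
      rw [C.τ_inv]
      rintro _ ⟨a, rfl⟩
      rw [hτ]
      by_cases h0 : f1 b + B a.1 b = 0
      · refine ⟨⟨a.1 + b, by rw [hf1, a.2]; linear_combination h0⟩, ?_⟩
        funext x; rw [if_pos h0]
      · exact ⟨a, funext fun x => by rw [if_neg h0]⟩
    | one => intro h hh; rwa [one_smul]
    | mul g k _ _ hg hk => intro h hh; rw [mul_smul]; exact hg _ (hk _ hh)
  have hbase : f1 ∈ O := ⟨⟨0, by
    have h := hf1 0 0
    rw [add_zero, map_zero] at h
    linear_combination -h⟩, funext fun x => by simp⟩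
  have horb : MulAction.orbit (Symp.iso B) f1 = O := by
    ext h
    constructor
    · rintro ⟨g, rfl⟩; exact hOinv g f1 hbase
    · rintro ⟨⟨a, ha⟩, rfl⟩
      refine ⟨C.τ a, ?_⟩
      show C.τ a • f1 = _
      have := hτ a 0
      simp only [map_zero, LinearMap.zero_apply, add_zero, ha, if_true, zero_add] at this
      exact this
  refine ⟨MulAction.stabilizer (Symp.iso B) f1, ?_⟩
  rw [MulAction.index_stabilizer, horb, hO, ← Set.image_univ, Set.ncard_image_of_injective, Set.ncard_univ]
  · obtain ⟨-, e2⟩ := hsum f1 hf1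
    rw [hneg] at e2
    obtain ⟨f0, g1, -, g3, -⟩ := C.pow_facts
    have f0' : (2 : ℤ) ^ (2 * m) = 4 * (((2 ^ (m - 1) : ℕ) : ℤ) * ((2 ^ (m - 1) : ℕ) : ℤ)) := by exact_mod_cast f0
    have g3' : (2 : ℤ) ^ m = 2 * ((2 ^ (m - 1) : ℕ) : ℤ) := by exact_mod_cast g3
    rw [g1]
    rw [f0', g3'] at e2
    zify
    push_cast at e2 ⊢
    linarith
  · intro a b hab
    refine Subtype.ext ?_
    by_contra hne
    obtain ⟨x, -, hx⟩ := C.exists_sep ⊥ (s := a.1 + b.1) (by
      rw [Submodule.mem_bot]; exact fun h => hne (C.eq_of_add_eq_zero h))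
    have h1 : f1 x + B a.1 x = f1 x + B b.1 x := congrFun hab x
    rw [map_add, LinearMap.add_apply, add_left_cancel h1, ← two_mul, h2, zero_mul] at hx
    exact zero_ne_one hx

end Cfsg.Lib.Linear.MinIndexSpTwo
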