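import Cfsg.Agent.Lib.Linear.SymplecticGroup

/-!
# A symplectic space over the field with two elements

The transvections `τ v`, the elements `H v w = τ w * τ (v + w)` of the radical of the stabiliser of a
vector, and sums of signs of quadratic forms.
-/

set_option autoImplicit false
set_option linter.unusedSectionVars false

namespace Cfsg.Lib.Linear.MinIndexSpTwo

open Module

variable {F V : Type*} [Field F] [AddCommGroup V] [Module F V]

/-- A symplectic space of dimension `2 * m ≥ 6` over a field with two elements. -/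
structure Sp2 (B : LinearMap.BilinForm F V) (m : ℕ) : Prop where
  nondeg : B.Nondegenerate
  alt : B.IsAlt
  card : Nat.card F = 2
  dim : finrank F V = 2 * m
  hm : 3 ≤ m

variable {B : LinearMap.BilinForm F V} {m : ℕ} (C : Sp2 B m)
include C

theorem Sp2.zero_or_one (c : F) : c = 0 ∨ c = 1 := by
  obtain ⟨a, b, hab, h⟩ := Nat.card_eq_two_iff.1 C.card
  have hu : ∀ z : F, z = a ∨ z = b := fun z => by
    have : z ∈ ({a, b} : Set F) := h ▸ Set.mem_univ z
    simpa using this
  rcases hu 0 with h0 | h0 <;> rcases hu 1 with h1 | h1 <;> rcases hu c with hc | hc <;> subst h0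
  all_goals first
    | exact Or.inl hc
    | exact absurd (h1) one_ne_zero
    | exact Or.inr (hc.trans h1.symm)

theorem Sp2.two_eq_zero : (2 : F) = 0 := by
  rcases C.zero_or_one 2 with h | h
  · exact h
  · exact absurd (show (1 : F) = 0 by linear_combination h) one_ne_zero

theorem Sp2.neg_eq (c : F) : -c = c := by linear_combination -c * C.two_eq_zero

theorem Sp2.add_self (v : V) : v + v = 0 := by
  rw [← two_smul F v, C.two_eq_zero, zero_smul]

theorem Sp2.eq_of_add_eq_zero {v w : V} (h : v + w = 0) : v = w := by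
  rw [← add_zero v, ← C.add_self w, ← add_assoc, h, zero_add]

theorem Sp2.self (v : V) : B v v = 0 := C.alt.self_eq_zero v

theorem Sp2.symm (v w : V) : B v w = B w v := by
  rw [← LinearMap.IsAlt.neg C.alt v w, C.neg_eq]

theorem Sp2.finite_field : Finite F := Nat.finite_of_card_ne_zero (by rw [C.card]; norm_num)

theorem Sp2.finiteDimensional : FiniteDimensional F V :=
  Module.finite_of_finrank_pos (by rw [C.dim]; have := C.hm; omega)

theorem Sp2.finite : Finite V := by
  haveI := C.finite_field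
  haveI := C.finiteDimensional
  exact Module.finite_of_finite F

theorem Sp2.card_submodule (U : Submodule F V) : Nat.card U = 2 ^ finrank F U := by
  haveI := C.finite_field
  haveI := C.finiteDimensional
  rw [Module.natCard_eq_pow_finrank (K := F) (V := U), C.card]

theorem Sp2.finrank_orth (U : Submodule F V) :
    finrank F (B.orthogonal U) = 2 * m - finrank F U := by
  haveI := C.finiteDimensional
  rw [LinearMap.BilinForm.finrank_orthogonal C.nondeg, C.dim]

theorem Sp2.finrank_le (U : Submodule F V) : finrank F U ≤ 2 * m := by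
  haveI := C.finiteDimensional
  rw [← C.dim]; exact Submodule.finrank_le U

/-- Separation of a vector from a subspace. -/
theorem Sp2.exists_sep (X : Submodule F V) {s : V} (hs : s ∉ X) :
    ∃ a, (∀ x ∈ X, B x a = 0) ∧ B s a = 1 := by
  haveI := C.finiteDimensional
  by_contra hne
  apply hs
  rw [← LinearMap.BilinForm.orthogonal_orthogonal C.nondeg C.alt.isRefl X]
  intro a ha
  show B a s = 0
  rcases C.zero_or_one (B s a) with h | h
  · rw [C.symm]; exact h
  · exact absurd ⟨a, fun x hx => ha x hx, h⟩ hne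

theorem Sp2.mem_span_singleton {v w : V} : w ∈ Submodule.span F {v} ↔ w = 0 ∨ w = v := by
  rw [Submodule.mem_span_singleton]
  constructor
  · rintro ⟨c, rfl⟩
    rcases C.zero_or_one c with rfl | rfl
    · exact Or.inl (zero_smul _ _)
    · exact Or.inr (one_smul _ _)
  · rintro (rfl | rfl)
    · exact ⟨0, zero_smul _ _⟩
    · exact ⟨1, one_smul _ _⟩

theorem Sp2.exists_pair {v : V} (hv : v ≠ 0) : ∃ a, B v a = 1 := by
  obtain ⟨a, -, ha⟩ := C.exists_sep ⊥ (s := v) (by simpa using hv)
  exact ⟨a, ha⟩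

/-- The hyperplane orthogonal to `v`. -/
theorem Sp2.finrank_perp {v : V} (hv : v ≠ 0) :
    finrank F (B.orthogonal (Submodule.span F {v})) = 2 * m - 1 := by
  rw [C.finrank_orth, finrank_span_singleton hv]

theorem Sp2.mem_perp {v w : V} : w ∈ B.orthogonal (Submodule.span F {v}) ↔ B v w = 0 := by
  constructor
  · intro h; exact h v (Submodule.mem_span_singleton_self v)
  · intro h x hx
    show B x w = 0
    rcases C.mem_span_singleton.1 hx with rfl | rfl
    · simp
    · exact h

theorem Sp2.card_perp {v : V} (hv : v ≠ 0) :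
    Nat.card (B.orthogonal (Submodule.span F {v})) = 2 ^ (2 * m - 1) := by
  rw [C.card_submodule, C.finrank_perp hv]

/-! ### Transvections -/

/-- The transvection with centre `v`. -/
def Sp2.τ (v : V) : Symp.iso B := Symp.tvG C.alt v 1

theorem Sp2.τ_apply (v x : V) : (C.τ v).1 x = x + B x v • v := by
  show Symp.tv C.alt v 1 x = _
  simp

theorem Sp2.τ_zero : C.τ 0 = 1 :=
  Subtype.ext (LinearEquiv.ext fun x => by rw [C.τ_apply]; simp)

theorem Sp2.τ_mul_self (v : V) : C.τ v * C.τ v = 1 := by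
  haveI := C.finiteDimensional
  rw [Sp2.τ, ← Symp.tvG_add, one_add_one_eq_two, C.two_eq_zero]
  exact Subtype.ext (Symp.tv_zero C.alt v)

theorem Sp2.τ_inv (v : V) : (C.τ v)⁻¹ = C.τ v := inv_eq_of_mul_eq_one_right (C.τ_mul_self v)

theorem Sp2.τ_conj (g : Symp.iso B) (v : V) : g * C.τ v * g⁻¹ = C.τ (g.1 v) :=
  haveI := C.finiteDimensional
  Symp.tvG_conj C.alt g v 1

theorem Sp2.τ_mul (g : Symp.iso B) (v : V) : g * C.τ v = C.τ (g.1 v) * g := by
  rw [← C.τ_conj, inv_mul_cancel_right]

theorem Sp2.τ_comm {a b : V} (h : B a b = 0) : C.τ a * C.τ b = C.τ b * C.τ a := by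
  rw [C.τ_mul (C.τ a) b, C.τ_apply, C.symm, h, zero_smul, add_zero]

theorem Sp2.τ_braid {a b : V} (h : B a b = 1) : C.τ a * C.τ b * C.τ a = C.τ (a + b) := by
  conv_lhs => rw [C.τ_mul (C.τ a) b, mul_assoc, C.τ_mul_self, mul_one, C.τ_apply, C.symm, h, one_smul,
    add_comm]

theorem Sp2.closure_τ : Subgroup.closure {g : Symp.iso B | ∃ v, v ≠ 0 ∧ g = C.τ v} = ⊤ := by
  haveI := C.finiteDimensional
  rw [eq_top_iff, ← Symp.closure_tvG C.nondeg C.alt, Subgroup.closure_le]
  rintro _ ⟨v, c, rfl⟩
  rcases C.zero_or_one c with rfl | rfl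
  · rw [show Symp.tvG C.alt v (0 : F) = 1 from Subtype.ext (Symp.tv_zero C.alt v)]
    exact one_mem _
  · rcases eq_or_ne v 0 with rfl | hv
    · rw [show Symp.tvG C.alt (0 : V) (1 : F) = 1 from C.τ_zero]
      exact one_mem _
    · exact Subgroup.subset_closure ⟨v, hv, rfl⟩

theorem Sp2.exists_map {v w : V} (hv : v ≠ 0) (hw : w ≠ 0) : ∃ g : Symp.iso B, g.1 v = w := by
  haveI := C.finiteDimensional
  obtain ⟨g, hg, hgv⟩ := Symp.exists_iso_vec C.nondeg C.alt hv hw
  exact ⟨⟨g, Symp.T_le_iso C.alt ⊥ hg⟩, hgv⟩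

/-! ### The radical of the stabiliser of `v` -/

/-- The element `τ w * τ (v + w)`. -/
def Sp2.H (v w : V) : Symp.iso B := C.τ w * C.τ (v + w)

theorem Sp2.H_zero (v : V) : C.H v 0 = C.τ v := by
  rw [Sp2.H, C.τ_zero, one_mul, add_zero]

theorem Sp2.H_self (v : V) : C.H v v = C.τ v := by
  rw [Sp2.H, C.add_self, C.τ_zero, mul_one]

theorem Sp2.H_apply {v w : V} (h : B v w = 0) (x : V) :
    (C.H v w).1 x = x + B x v • (v + w) + B x w • v := by
  show (C.τ w).1 ((C.τ (v + w)).1 x) = _
  rw [C.τ_apply, C.τ_apply]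
  simp only [map_add, map_smul, LinearMap.add_apply, LinearMap.smul_apply, smul_eq_mul, C.self, h,
    add_zero, mul_zero]
  have h2 : (2 : F) • (B x w • w) = 0 := by rw [C.two_eq_zero, zero_smul]
  linear_combination (norm := module) h2

theorem Sp2.H_conj (g : Symp.iso B) (v w : V) : g * C.H v w = C.H (g.1 v) (g.1 w) * g := by
  rw [Sp2.H, Sp2.H, ← map_add, ← mul_assoc, C.τ_mul g w, mul_assoc, C.τ_mul g (v + w), ← mul_assoc]

theorem Sp2.H_mul_one {v a b : V} (ha : B v a = 0) (hb : B v b = 0) (h : B a b = 1) :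
    C.H v a * C.H v b = C.H v (a + b) := by
  refine Subtype.ext (LinearEquiv.ext fun x => ?_)
  show (C.H v a).1 ((C.H v b).1 x) = _
  rw [C.H_apply ha, C.H_apply hb, C.H_apply (by rw [map_add, ha, hb, add_zero])]
  have hba : B b a = 1 := by rw [C.symm, h]
  have hbv : B b v = 0 := by rw [C.symm, hb]
  simp only [map_add, map_smul, LinearMap.add_apply, LinearMap.smul_apply, smul_eq_mul, C.self, ha,
    hba, hbv, add_zero, mul_zero, mul_one]
  have h2 : (2 : F) • (B x v • v) = 0 := by rw [C.two_eq_zero, zero_smul]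
  linear_combination (norm := module) h2

theorem Sp2.H_mul_zero {v a b : V} (ha : B v a = 0) (hb : B v b = 0) (h : B a b = 0) :
    C.H v a * C.H v b = C.τ v * C.H v (a + b) := by
  refine Subtype.ext (LinearEquiv.ext fun x => ?_)
  show (C.H v a).1 ((C.H v b).1 x) = (C.τ v).1 ((C.H v (a + b)).1 x)
  rw [C.H_apply ha, C.H_apply hb, C.H_apply (by rw [map_add, ha, hb, add_zero]), C.τ_apply]
  have hba : B b a = 0 := by rw [C.symm, h]
  have hbv : B b v = 0 := by rw [C.symm, hb]
  have hav : B a v = 0 := by rw [C.symm, ha]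
  simp only [map_add, map_smul, LinearMap.add_apply, LinearMap.smul_apply, smul_eq_mul, C.self, ha,
    hba, hbv, hav, add_zero, mul_zero]
  module

theorem Sp2.H_comm {v a b : V} (ha : B v a = 0) (hb : B v b = 0) :
    C.H v a * C.H v b = C.H v b * C.H v a := by
  rcases C.zero_or_one (B a b) with h | h
  · rw [C.H_mul_zero ha hb h, C.H_mul_zero hb ha (by rw [C.symm, h]), add_comm]
  · rw [C.H_mul_one ha hb h, C.H_mul_one hb ha (by rw [C.symm, h]), add_comm]

theorem Sp2.H_τ {v a : V} (ha : B v a = 0) : C.H v a * C.τ v = C.τ v * C.H v a := by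
  rw [← C.H_zero v]
  exact C.H_comm ha (by simp)

theorem Sp2.H_mul_self {v a : V} (ha : B v a = 0) : C.H v a * C.H v a = 1 := by
  rw [C.H_mul_zero ha ha (C.self a), C.add_self, C.H_zero, C.τ_mul_self]

end Cfsg.Lib.Linear.MinIndexSpTwo

namespace Cfsg.Lib.Linear.MinIndexSpTwo

variable {F V : Type*} [Field F] [AddCommGroup V] [Module F V]

open scoped Classical in
/-- The sign attached to an element of the field with two elements. -/
noncomputable def chi (c : F) : ℤ := if c = 0 then 1 else -1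

theorem chi_zero : chi (0 : F) = 1 := by simp [chi]

theorem chi_one : chi (1 : F) = -1 := by simp [chi]

variable {B : LinearMap.BilinForm F V} {m : ℕ} (C : Sp2 B m)
include C

theorem Sp2.chi_add (a b : F) : chi (a + b) = chi a * chi b := by
  rcases C.zero_or_one a with rfl | rfl <;> rcases C.zero_or_one b with rfl | rfl <;>
    simp [chi, one_add_one_eq_two, C.two_eq_zero]

open scoped Classical in
/-- The square of the sum of the signs of a quadratic form on a subspace, and the number of zeros. -/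
theorem Sp2.sign_sum (U R : Submodule F V) [Fintype U] (s : V → ℤ)
    (hs : ∀ a ∈ U, s a = 1 ∨ s a = -1)
    (hadd : ∀ a ∈ U, ∀ b ∈ U, s (a + b) = s a * s b * chi (B a b))
    (hR : R ≤ U) (hrad : ∀ c ∈ R, ∀ a ∈ U, B a c = 0) (hR1 : ∀ c ∈ R, s c = 1)
    (hsep : ∀ c ∈ U, c ∉ R → ∃ a ∈ U, B a c = 1) :
    (∑ a : U, s a.1) ^ 2 = (Nat.card U * Nat.card R : ℤ) ∧
      (2 * (Nat.card {a : U // s a.1 = 1}) : ℤ) = Nat.card U + ∑ a : U, s a.1 := by
  refine ⟨?_, ?_⟩
  · have hchar : ∀ c : U, ∑ a : U, chi (B a.1 c.1) = if c.1 ∈ R then (Nat.card U : ℤ) else 0 := by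
      intro c
      split_ifs with hc
      · rw [Finset.sum_congr rfl (fun a _ => by rw [hrad c.1 hc a.1 a.2, chi_zero])]
        simp
      · obtain ⟨a0, ha0, hb⟩ := hsep c.1 c.2 hc
        have h1 : ∑ a : U, chi (B a.1 c.1) = ∑ a : U, chi (B (a + ⟨a0, ha0⟩ : U).1 c.1) :=
          (Equiv.sum_comp (Equiv.addRight (⟨a0, ha0⟩ : U)) fun a : U => chi (B a.1 c.1)).symm
        have h2 : ∀ a : U, chi (B (a + ⟨a0, ha0⟩ : U).1 c.1) = -chi (B a.1 c.1) := fun a => by
          rw [Submodule.coe_add, map_add, LinearMap.add_apply, hb, C.chi_add, chi_one, mul_neg_one]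
        rw [Finset.sum_congr rfl (fun a _ => h2 a), Finset.sum_neg_distrib] at h1
        omega
    have hsc : ∀ a : U, ∀ c : U, s a.1 * s (a + c : U).1 = s c.1 * chi (B a.1 c.1) := fun a c => by
      rw [Submodule.coe_add, hadd a.1 a.2 c.1 c.2, ← mul_assoc, ← mul_assoc]
      rcases hs a.1 a.2 with h | h <;> rw [h] <;> ring
    have h3 : (∑ a : U, s a.1) ^ 2 = ∑ c : U, s c.1 * ∑ a : U, chi (B a.1 c.1) := by
      rw [sq, Finset.sum_mul]
      simp_rw [Finset.mul_sum]
      conv_rhs => rw [Finset.sum_comm]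
      refine Finset.sum_congr rfl fun a _ => ?_
      rw [← Equiv.sum_comp (Equiv.addLeft a) fun b : U => s a.1 * s b.1]
      exact Finset.sum_congr rfl fun c _ => hsc a c
    rw [h3]
    have h4 : ∀ c : U, s c.1 * ∑ a : U, chi (B a.1 c.1) = if c.1 ∈ R then (Nat.card U : ℤ) else 0 := by
      intro c
      rw [hchar c]
      split_ifs with hc
      · rw [hR1 c.1 hc, one_mul]
      · ring
    rw [Finset.sum_congr rfl (fun c _ => h4 c), Finset.sum_ite, Finset.sum_const_zero, add_zero,
      Finset.sum_const, nsmul_eq_mul, ← Fintype.card_subtype, ← Nat.card_eq_fintype_card,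
      Nat.card_congr (Equiv.subtypeSubtypeEquivSubtype (fun {x} hx => hR hx))]
    ring
  · rw [Nat.card_eq_fintype_card, Fintype.card_subtype, Nat.card_eq_fintype_card, ← Finset.card_univ,
      ← Finset.card_filter_add_card_filter_not (s := (Finset.univ : Finset U)) (fun a : U => s a.1 = 1)]
    rw [← Finset.sum_filter_add_sum_filter_not (Finset.univ : Finset U) (fun a : U => s a.1 = 1)]
    rw [Finset.sum_congr rfl (fun (a : U) (ha : a ∈ Finset.univ.filter fun a : U => s a.1 = 1) =>
        (Finset.mem_filter.1 ha).2),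
      Finset.sum_congr rfl (fun (a : U) (ha : a ∈ Finset.univ.filter fun a : U => ¬ s a.1 = 1) =>
        ((hs a.1 a.2).resolve_left (Finset.mem_filter.1 ha).2)),
      Finset.sum_const, Finset.sum_const]
    push_cast
    ring

end Cfsg.Lib.Linear.MinIndexSpTwo
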