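import Cfsg.Agent.Lib.Linear.MinIndexSpTwo.Attain

/-!
# The minimal index of a proper subgroup of `PSp_{2m}(2)`
-/

set_option autoImplicit false
set_option linter.unusedSectionVars false

namespace Cfsg.Lib.Linear.MinIndexSpTwo

open Module

variable {F : Type*} [Field F] [Fintype F]

theorem standard (hF : Fintype.card F = 2) (m : ℕ) (hm : 3 ≤ m) : Sp2 (Symp.spB m F) m where
  nondeg := Symp.spB_nondegenerate m F
  alt := Symp.spB_isAlt m F
  card := by rw [Nat.card_eq_fintype_card, hF]
  dim := Symp.finrank_space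
  hm := hm

theorem exists_form (hF : Fintype.card F = 2) (m : ℕ) (hm : 3 ≤ m) :
    ∃ f : (Fin m ⊕ Fin m → F) → F, ∀ a b, f (a + b) = f a + f b + Symp.spB m F a b := by
  have h2 := (standard hF m hm).two_eq_zero
  refine ⟨fun x => ∑ i, x (Sum.inl i) * x (Sum.inr i), fun a b => ?_⟩
  rw [Symp.spB_apply, Cfsg.sympForm, Symp.J_mulVec]
  simp only [dotProduct, Fintype.sum_sum_type, Sum.elim_inl, Sum.elim_inr, Pi.add_apply,
    ← Finset.sum_add_distrib]
  refine Finset.sum_congr rfl fun i _ => ?_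
  linear_combination (a (Sum.inl i) * b (Sum.inr i)) * h2

/-- The projective symplectic group over the field with two elements. -/
theorem exists_equiv (hF : Fintype.card F = 2) (m : ℕ) (hm : 3 ≤ m) :
    Nonempty (Cfsg.PSp m F ≃* Symp.iso (Symp.spB m F)) := by
  have C := standard hF m hm
  haveI := C.finiteDimensional
  haveI : Nontrivial (Fin m ⊕ Fin m → F) := by
    haveI : Nonempty (Fin m ⊕ Fin m) := ⟨Sum.inl ⟨0, by omega⟩⟩
    infer_instance
  have hc : Subgroup.center (Symp.iso (Symp.spB m F)) = ⊥ := by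
    refine Subgroup.eq_bot_of_card_eq _ ?_
    rw [Symp.card_center C.nondeg C.alt, Nat.card_eq_one_iff_unique]
    refine ⟨⟨fun a b => Subtype.ext ?_⟩, ⟨⟨1, one_mul 1⟩⟩⟩
    have h1 : ∀ c : {a : F // a * a = 1}, c.1 = 1 := fun c =>
      (C.zero_or_one c.1).resolve_left fun h => by
        have := c.2
        rw [h, zero_mul] at this
        exact zero_ne_one this
    rw [h1 a, h1 b]
  have hc' : Subgroup.center ↥(Matrix.symplecticGroup (Fin m) F) = ⊥ := by
    rw [eq_bot_iff]
    intro g hg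
    rw [Subgroup.mem_bot]
    have : Symp.spEquiv g ∈ Subgroup.center (Symp.iso (Symp.spB m F)) := by
      rw [Subgroup.mem_center_iff] at hg ⊢
      intro k
      obtain ⟨k', rfl⟩ := Symp.spEquiv.surjective k
      rw [← map_mul, ← map_mul, hg k']
    rw [hc, Subgroup.mem_bot] at this
    exact Symp.spEquiv.injective (this.trans (map_one _).symm)
  exact ⟨((QuotientGroup.quotientMulEquivOfEq hc').trans QuotientGroup.quotientBot).trans Symp.spEquiv⟩

theorem arith {m : ℕ} (hm : 3 ≤ m) :
    2 ^ (m - 1) * (2 ^ m - 1) + 2 ^ (m - 1) = 2 ^ (2 * m - 1) := by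
  rw [show 2 * m - 1 = (m - 1) + m by omega, pow_add, ← Nat.mul_succ]
  congr 1
  have : 1 ≤ 2 ^ m := Nat.one_le_two_pow
  omega

/-- The minimal index. -/
theorem min_index (hF : Fintype.card F = 2) (m : ℕ) (hm : 3 ≤ m) :
    (∀ H : Subgroup (Cfsg.PSp m F), H ≠ ⊤ → 2 ^ (m - 1) * (2 ^ m - 1) ≤ H.index) ∧
      ∃ H : Subgroup (Cfsg.PSp m F), H.index = 2 ^ (m - 1) * (2 ^ m - 1) := by
  have C := standard hF m hm
  obtain ⟨e⟩ := exists_equiv hF m hm
  haveI := C.finite
  haveI : Finite (Symp.iso (Symp.spB m F)) :=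
    Finite.of_injective (fun g => (⇑(g.1) : _ → _)) fun g k h => Subtype.ext (LinearEquiv.ext (congrFun h))
  have har := arith hm
  refine ⟨fun H hH => ?_, ?_⟩
  · set K := H.comap e.symm.toMonoidHom with hK
    have hidx : K.index = H.index := H.index_comap_of_surjective e.symm.surjective
    have h2 : 2 ≤ Nat.card (Symp.iso (Symp.spB m F) ⧸ K) := by
      rw [← Subgroup.index_eq_card, hidx]
      have h0 : H.index ≠ 0 := by
        rw [← hidx]; exact Subgroup.FiniteIndex.index_ne_zero
      have h1 : H.index ≠ 1 := fun h => hH (Subgroup.index_eq_one.1 h)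
      omega
    have h := C.no_small (Ω := Symp.iso (Symp.spB m F) ⧸ K) h2
    rw [← Subgroup.index_eq_card, hidx] at h
    omega
  · obtain ⟨f, hf⟩ := exists_form hF m hm
    obtain ⟨K, hK⟩ := C.exists_index f hf
    refine ⟨K.comap e.toMonoidHom, ?_⟩
    rw [K.index_comap_of_surjective (f := e.toMonoidHom) e.surjective]
    omega

end Cfsg.Lib.Linear.MinIndexSpTwo
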