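import Cfsg.Agent.Lib.Linear.MinIndexSpTwo.Basic

/-!
# Orbits of the radical of a vector stabiliser on a small set

If a symplectic group over the field with two elements acts transitively on fewer than
`2 ^ (2m - 1) - 2 ^ (m - 1)` and more than one point, then every such radical moves each point to at most
one other point, and does so by its central transvection.
-/

set_option autoImplicit false
set_option linter.unusedSectionVars false

namespace Cfsg.Lib.Linear.MinIndexSpTwo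

open Module

variable {F V : Type*} [Field F] [AddCommGroup V] [Module F V] {B : LinearMap.BilinForm F V} {m : ℕ}
  (C : Sp2 B m) {Ω : Type*} [MulAction (Symp.iso B) Ω]
include C

/-- The powers of two occurring. -/
theorem Sp2.pow_facts : 2 ^ (2 * m) = 4 * (2 ^ (m - 1) * 2 ^ (m - 1)) ∧
    2 ^ (2 * m - 1) = 2 * (2 ^ (m - 1) * 2 ^ (m - 1)) ∧
    2 ^ (2 * m - 2) = 2 ^ (m - 1) * 2 ^ (m - 1) ∧ 2 ^ m = 2 * 2 ^ (m - 1) ∧ 4 ≤ 2 ^ (m - 1) := by
  obtain ⟨k, rfl⟩ : ∃ k, m = k + 3 := ⟨m - 3, by have := C.hm; omega⟩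
  rw [show 2 * (k + 3) - 1 = (k + 2) + (k + 2) + 1 by omega, show k + 3 - 1 = k + 2 by omega,
    show 2 * (k + 3) - 2 = (k + 2) + (k + 2) by omega, show 2 * (k + 3) = (k + 2) + (k + 2) + 2 by omega]
  have : 1 ≤ 2 ^ k := Nat.one_le_two_pow
  simp only [pow_add]
  refine ⟨by ring, by ring, trivial, by ring, by omega⟩

theorem Sp2.τ_smul_smul (v : V) (x : Ω) : C.τ v • C.τ v • x = x := by
  rw [smul_smul, C.τ_mul_self, one_smul]

theorem Sp2.smul_H (g : Symp.iso B) (v w : V) (x : Ω) :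
    C.H (g.1 v) (g.1 w) • g • x = g • C.H v w • x := by
  rw [smul_smul, smul_smul, C.H_conj]

theorem Sp2.smul_τ (g : Symp.iso B) (v : V) (x : Ω) : C.τ (g.1 v) • g • x = g • C.τ v • x := by
  rw [smul_smul, smul_smul, C.τ_mul]

theorem Sp2.H_τ_smul {v a : V} (ha : B v a = 0) (x : Ω) :
    C.H v a • C.τ v • x = C.τ v • C.H v a • x := by
  rw [smul_smul, smul_smul, C.H_τ ha]

theorem Sp2.H_smul_cases {v a b : V} (ha : B v a = 0) (hb : B v b = 0) (x : Ω) :
    C.H v (a + b) • x = C.H v a • C.H v b • x ∨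
      C.H v (a + b) • x = C.τ v • C.H v a • C.H v b • x := by
  rw [smul_smul (C.H v a)]
  rcases C.zero_or_one (B a b) with h | h
  · right
    rw [C.H_mul_zero ha hb h, mul_smul, C.τ_smul_smul]
  · left
    rw [C.H_mul_one ha hb h]

theorem Sp2.H_add_self {v a : V} (ha : B v a = 0) : C.H v (v + a) = C.H v a := by
  rw [Sp2.H, Sp2.H, ← add_assoc, C.add_self, zero_add]
  exact C.τ_comm (by rw [map_add, LinearMap.add_apply, ha, C.self, add_zero])

/-- The vectors whose elements move `x` at most by the central transvection. -/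
def Sp2.Sbar (v : V) (x : Ω) : Submodule F V where
  carrier := {w | B v w = 0 ∧ (C.H v w • x = x ∨ C.H v w • x = C.τ v • x)}
  zero_mem' := ⟨by simp, Or.inr (by rw [C.H_zero])⟩
  add_mem' := by
    rintro a b ⟨ha, hax⟩ ⟨hb, hbx⟩
    refine ⟨by rw [map_add, ha, hb, add_zero], ?_⟩
    have h : C.H v a • C.H v b • x = x ∨ C.H v a • C.H v b • x = C.τ v • x := by
      rcases hbx with h | h <;> rw [h]
      · exact hax
      · rw [C.H_τ_smul ha]
        rcases hax with h' | h' <;> rw [h']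
        · exact Or.inr rfl
        · exact Or.inl (C.τ_smul_smul v x)
    rcases C.H_smul_cases ha hb x with h' | h' <;> rw [h'] <;> rcases h with h | h <;> rw [h]
    · exact Or.inl rfl
    · exact Or.inr rfl
    · exact Or.inr rfl
    · exact Or.inl (C.τ_smul_smul v x)
  smul_mem' := by
    intro c a ha
    rcases C.zero_or_one c with rfl | rfl
    · rw [zero_smul]
      exact ⟨by simp, Or.inr (by rw [C.H_zero])⟩
    · rwa [one_smul]

theorem Sp2.mem_Sbar {v w : V} {x : Ω} :
    w ∈ C.Sbar v x ↔ B v w = 0 ∧ (C.H v w • x = x ∨ C.H v w • x = C.τ v • x) := Iff.rfl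

theorem Sp2.self_mem_Sbar (v : V) (x : Ω) : v ∈ C.Sbar v x :=
  ⟨C.self v, Or.inr (by rw [C.H_self])⟩

theorem Sp2.Sbar_le_perp (v : V) (x : Ω) : C.Sbar v x ≤ B.orthogonal (Submodule.span F {v}) :=
  fun _ hw => C.mem_perp.2 hw.1

theorem Sp2.mem_Sbar_smul (g : Symp.iso B) (v w : V) (x : Ω) :
    g.1 w ∈ C.Sbar (g.1 v) (g • x) ↔ w ∈ C.Sbar v x := by
  rw [C.mem_Sbar, C.mem_Sbar, g.2 v w, C.smul_H, C.smul_τ, smul_left_cancel_iff, smul_left_cancel_iff]

theorem Sp2.Sbar_H {v a : V} (ha : B v a = 0) (x : Ω) : C.Sbar v (C.H v a • x) = C.Sbar v x := by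
  ext w
  simp only [C.mem_Sbar]
  constructor <;> rintro ⟨hw, h⟩ <;> refine ⟨hw, ?_⟩
  · rwa [smul_smul, C.H_comm hw ha, mul_smul, ← C.H_τ_smul ha, smul_left_cancel_iff,
      smul_left_cancel_iff] at h
  · rw [smul_smul, C.H_comm hw ha, mul_smul, ← C.H_τ_smul ha, smul_left_cancel_iff, smul_left_cancel_iff]
    exact h

/-- The orbit of `x` under the elements `H v a`. -/
def Sp2.orb (v : V) (x : Ω) : Set Ω :=
  Set.range fun a : B.orthogonal (Submodule.span F {v}) => C.H v a.1 • x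

theorem Sp2.card_orb [Finite Ω] {v : V} (hv : v ≠ 0) (x : Ω) :
    2 ^ (2 * m - 1) ≤ Nat.card (C.orb v x) * 2 ^ finrank F (C.Sbar v x) := by
  haveI := C.finite
  rw [← C.card_perp hv, ← C.card_submodule, ← Nat.card_prod]
  choose σ hσ using fun z : C.orb v x => z.2
  refine Nat.card_le_card_of_injective (fun a => (⟨C.H v a.1 • x, ⟨a, rfl⟩⟩,
    ⟨a.1 + (σ ⟨C.H v a.1 • x, ⟨a, rfl⟩⟩).1, ?_⟩)) ?_
  · set b := σ ⟨C.H v a.1 • x, ⟨a, rfl⟩⟩ with hb
    have ha := C.mem_perp.1 a.2
    have hb' := C.mem_perp.1 b.2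
    refine ⟨by rw [map_add, ha, hb', add_zero], ?_⟩
    have h : C.H v b.1 • C.H v a.1 • x = x := by
      have h' : C.H v b.1 • x = C.H v a.1 • x := hσ ⟨C.H v a.1 • x, ⟨a, rfl⟩⟩
      rw [← h', smul_smul, C.H_mul_self hb', one_smul]
    rw [add_comm a.1 b.1]
    rcases C.H_smul_cases hb' ha x with h' | h' <;> rw [h', h]
    · exact Or.inl rfl
    · exact Or.inr rfl
  · intro a b hab
    have h1 : (⟨C.H v a.1 • x, ⟨a, rfl⟩⟩ : C.orb v x) = ⟨C.H v b.1 • x, ⟨b, rfl⟩⟩ :=
      congrArg Prod.fst hab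
    have h2 := congrArg (fun p => ((Prod.snd p : C.Sbar v x) : V)) hab
    simp only [h1] at h2
    exact Subtype.ext (add_right_cancel h2)

theorem Sp2.orb_Sbar {v : V} {x y : Ω} (hy : y ∈ C.orb v x) : C.Sbar v y = C.Sbar v x := by
  obtain ⟨a, rfl⟩ := hy
  exact C.Sbar_H (C.mem_perp.1 a.2) x

theorem Sp2.orb_fix {v : V} {x y : Ω} (hx : C.τ v • x = x) (hy : y ∈ C.orb v x) : C.τ v • y = y := by
  obtain ⟨a, rfl⟩ := hy
  show C.τ v • C.H v a.1 • x = C.H v a.1 • x
  rw [← C.H_τ_smul (C.mem_perp.1 a.2), hx]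

/-- Transitivity of the stabiliser of `v` on the vectors orthogonal to `v`. -/
theorem Sp2.exists_map_perp {v p q : V} (hp : B v p = 0) (hp0 : p ≠ 0) (hpv : p ≠ v) (hq : B v q = 0)
    (hq0 : q ≠ 0) (hqv : q ≠ v) : ∃ g : Symp.iso B, g.1 v = v ∧ g.1 p = q := by
  have step : ∀ p q : V, B v p = 0 → B v q = 0 → B p q = 1 →
      ∃ g : Symp.iso B, g.1 v = v ∧ g.1 p = q := by
    intro p q hp hq hpq
    refine ⟨C.τ (p + q), ?_, ?_⟩
    · rw [C.τ_apply, map_add, hp, hq, add_zero, zero_smul, add_zero]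
    · rw [C.τ_apply, map_add, C.self, hpq, zero_add, one_smul, ← add_assoc, C.add_self, zero_add]
  rcases C.zero_or_one (B p q) with hpq | hpq
  swap
  · exact step p q hp hq hpq
  obtain ⟨r, hr, hpr, hqr⟩ : ∃ r, B v r = 0 ∧ B p r = 1 ∧ B q r = 1 := by
    obtain ⟨r1, h1, h1'⟩ := C.exists_sep (Submodule.span F {v}) (s := p) (by
      rw [C.mem_span_singleton]; tauto)
    have hv1 := h1 v (Submodule.mem_span_singleton_self v)
    by_cases hq' : q ∈ Submodule.span F {v} ⊔ Submodule.span F {p}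
    · obtain ⟨a, ha, b, hb, rfl⟩ := Submodule.mem_sup.1 hq'
      refine ⟨r1, hv1, h1', ?_⟩
      rcases C.mem_span_singleton.1 ha with rfl | rfl <;> rcases C.mem_span_singleton.1 hb with rfl | rfl
      · simp at hq0
      · rw [zero_add, h1']
      · simp at hqv
      · rw [map_add, LinearMap.add_apply, h1', hv1, zero_add]
    · obtain ⟨r2, h2, h2'⟩ := C.exists_sep _ hq'
      have hv2 := h2 v (Submodule.mem_sup_left (Submodule.mem_span_singleton_self v))
      have hp2 := h2 p (Submodule.mem_sup_right (Submodule.mem_span_singleton_self p))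
      refine ⟨r1 + (1 + B q r1) • r2, ?_, ?_, ?_⟩
      · rw [map_add, map_smul, hv1, hv2, smul_zero, add_zero]
      · rw [map_add, map_smul, h1', hp2, smul_zero, add_zero]
      · rw [map_add, map_smul, h2', smul_eq_mul]
        linear_combination B q r1 * C.two_eq_zero
  obtain ⟨g₁, hg₁, hg₁'⟩ := step p r hp hr hpr
  obtain ⟨g₂, hg₂, hg₂'⟩ := step r q hr hq (by rw [C.symm]; exact hqr)
  refine ⟨g₂ * g₁, ?_, ?_⟩
  · show g₂.1 (g₁.1 v) = v
    rw [hg₁, hg₂]
  · show g₂.1 (g₁.1 p) = q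
    rw [hg₁', hg₂']

theorem Sp2.map_orth_Sbar {g : Symp.iso B} {v : V} (hg : g.1 v = v) (x : Ω) :
    (B.orthogonal (C.Sbar v x)).map (g.1 : V →ₗ[F] V) = B.orthogonal (C.Sbar v (g • x)) := by
  have hinv : ∀ z, g.1 ((g⁻¹).1 z) = z := fun z => by
    show (g * g⁻¹).1 z = z
    rw [mul_inv_cancel]; rfl
  ext z
  constructor
  · rintro ⟨y, hy, rfl⟩ s hs
    show B s (g.1 y) = 0
    rw [← hinv s, g.2]
    refine hy _ ?_
    have := (C.mem_Sbar_smul g v ((g⁻¹).1 s) x)
    rw [hinv, hg] at this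
    exact this.1 hs
  · intro hz
    refine ⟨(g⁻¹).1 z, fun s hs => ?_, hinv z⟩
    show B s ((g⁻¹).1 z) = 0
    rw [← g.2, hinv]
    refine hz _ ?_
    have := (C.mem_Sbar_smul g v s x).2 hs
    rwa [hg] at this

variable [Finite Ω]

/-- There are only the two extreme possibilities. -/
theorem Sp2.Sbar_cases (hN : Nat.card Ω + 2 ^ (m - 1) < 2 ^ (2 * m - 1)) {v : V} (hv : v ≠ 0) (x : Ω) :
    C.Sbar v x = B.orthogonal (Submodule.span F {v}) ∨ C.Sbar v x = Submodule.span F {v} := by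
  classical
  haveI := C.finite
  haveI := C.finiteDimensional
  haveI := Fintype.ofFinite Ω
  haveI := Fintype.ofFinite V
  haveI : Finite (Submodule F V) := Finite.of_injective (fun S : Submodule F V => (S : Set V)) SetLike.coe_injective
  by_contra hne
  push Not at hne
  obtain ⟨hne1, hne2⟩ := hne
  set d := finrank F (C.Sbar v x) with hd
  have hspan : ∀ y : Ω, Submodule.span F {v} ≤ C.Sbar v y := fun y =>
    (Submodule.span_singleton_le_iff_mem _ _).2 (C.self_mem_Sbar v y)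
  have hd1 : 2 ≤ d := by
    have h := Submodule.finrank_lt_finrank_of_lt (lt_of_le_of_ne (hspan x) (Ne.symm hne2))
    rw [finrank_span_singleton hv] at h
    omega
  have hd2 : d ≤ 2 * m - 2 := by
    have h := Submodule.finrank_lt_finrank_of_lt (lt_of_le_of_ne (C.Sbar_le_perp v x) hne1)
    rw [C.finrank_perp hv] at h
    omega
  obtain ⟨j, hj⟩ : ∃ j, 2 * m - d = j + 1 := ⟨2 * m - d - 1, by omega⟩
  set Y := Finset.univ.filter fun y : Ω => finrank F (C.Sbar v y) = d with hY
  set 𝒜 := Y.image fun y => B.orthogonal (C.Sbar v y) with h𝒜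
  have hmem : ∀ A ∈ 𝒜, v ∈ A ∧ A ≤ B.orthogonal (Submodule.span F {v}) ∧ finrank F A = j + 1 := by
    intro A hA
    obtain ⟨y, hy, rfl⟩ := Finset.mem_image.1 hA
    refine ⟨fun s hs => ?_, LinearMap.BilinForm.orthogonal_le (hspan y), ?_⟩
    · show B s v = 0
      rw [C.symm]; exact hs.1
    · rw [C.finrank_orth, (Finset.mem_filter.1 hy).2, hj]
  have hstab : ∀ g : Symp.iso B, g.1 v = v → ∀ A ∈ 𝒜, A.map (g.1 : V →ₗ[F] V) ∈ 𝒜 := by
    intro g hg A hA
    obtain ⟨y, hy, rfl⟩ := Finset.mem_image.1 hA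
    refine Finset.mem_image.2 ⟨g • y, Finset.mem_filter.2 ⟨Finset.mem_univ _, ?_⟩, ?_⟩
    · have h1 : finrank F (B.orthogonal (C.Sbar v (g • y))) = finrank F (B.orthogonal (C.Sbar v y)) := by
        rw [← C.map_orth_Sbar hg]
        exact LinearEquiv.finrank_map_eq g.1 _
      rw [C.finrank_orth, C.finrank_orth, (Finset.mem_filter.1 hy).2] at h1
      have := C.finrank_le (C.Sbar v (g • y))
      omega
    · rw [C.map_orth_Sbar hg]
  set P := Finset.univ.filter fun p : V => B v p = 0 ∧ p ≠ 0 ∧ p ≠ v with hP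
  set k : V → ℕ := fun p => (𝒜.filter fun A => p ∈ A).card with hk
  have hkconst : ∀ p ∈ P, ∀ q ∈ P, k p ≤ k q := by
    intro p hp q hq
    simp only [hP, Finset.mem_filter, Finset.mem_univ, true_and] at hp hq
    obtain ⟨g, hgv, hgp⟩ := C.exists_map_perp hp.1 hp.2.1 hp.2.2 hq.1 hq.2.1 hq.2.2
    refine Finset.card_le_card_of_injOn (fun A => A.map (g.1 : V →ₗ[F] V)) (fun A hA => ?_) ?_
    · rw [Finset.mem_coe, Finset.mem_filter] at hA ⊢
      exact ⟨hstab g hgv A hA.1, ⟨p, hA.2, hgp⟩⟩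
    · intro A _ A' _ h
      exact Submodule.map_injective_of_injective g.1.injective h
  -- counting the points of each member
  have hfib : ∀ A ∈ 𝒜, 2 ^ j ≤ (Y.filter fun y => B.orthogonal (C.Sbar v y) = A).card := by
    intro A hA
    obtain ⟨y, hy, rfl⟩ := Finset.mem_image.1 hA
    have h1 := C.card_orb hv y
    rw [(Finset.mem_filter.1 hy).2, show 2 * m - 1 = j + d by omega, pow_add] at h1
    refine le_trans (Nat.le_of_mul_le_mul_right h1 (by positivity)) ?_
    rw [Nat.card_eq_fintype_card, ← Set.toFinset_card]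
    refine Finset.card_le_card fun z hz => ?_
    rw [Set.mem_toFinset] at hz
    rw [hY, Finset.mem_filter, Finset.mem_filter, C.orb_Sbar hz]
    exact ⟨⟨Finset.mem_univ _, (Finset.mem_filter.1 hy).2⟩, rfl⟩
  have hN1 : 𝒜.card * 2 ^ j ≤ Nat.card Ω := by
    rw [Nat.card_eq_fintype_card, ← smul_eq_mul, ← Finset.sum_const]
    refine le_trans (Finset.sum_le_sum hfib) ?_
    rw [← Finset.card_eq_sum_card_fiberwise (s := Y) (t := 𝒜) (f := fun y => B.orthogonal (C.Sbar v y))
      (fun y hy => Finset.mem_coe.2 (Finset.mem_image_of_mem _ (Finset.mem_coe.1 hy)))]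
    exact Finset.card_le_univ Y
  have hpair : ∀ U : Submodule F V, v ∈ U → (Finset.univ.filter fun p : V => p ∈ U ∧ p ≠ 0 ∧ p ≠ v).card + 2 =
      2 ^ finrank F U := by
    intro U hU
    rw [← C.card_submodule, Nat.card_eq_fintype_card, Fintype.card_subtype]
    have : (Finset.univ.filter fun p : V => p ∈ U) =
        insert 0 (insert v (Finset.univ.filter fun p : V => p ∈ U ∧ p ≠ 0 ∧ p ≠ v)) := by
      ext p
      simp only [Finset.mem_insert, Finset.mem_filter, Finset.mem_univ, true_and]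
      constructor
      · tauto
      · rintro (rfl | rfl | h)
        · exact U.zero_mem
        · exact hU
        · exact h.1
    rw [this, Finset.card_insert_of_notMem (by simp [Ne.symm hv]), Finset.card_insert_of_notMem (by simp)]
  have hPc : P.card + 2 = 2 ^ (2 * m - 1) := by
    rw [← C.finrank_perp hv, ← hpair _ (C.mem_perp.2 (C.self v)), hP]
    simp only [C.mem_perp]
  obtain ⟨p0, hp0A, A0, hA0, hp0⟩ : ∃ p ∈ P, ∃ A ∈ 𝒜, p ∈ A := by
    have hA : B.orthogonal (C.Sbar v x) ∈ 𝒜 :=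
      Finset.mem_image_of_mem _ (Finset.mem_filter.2 ⟨Finset.mem_univ _, rfl⟩)
    obtain ⟨hv', hle, hf⟩ := hmem _ hA
    obtain ⟨p, hp, hpn⟩ : ∃ p ∈ B.orthogonal (C.Sbar v x), p ∉ Submodule.span F {v} := by
      by_contra hc
      push Not at hc
      have := Submodule.finrank_mono hc
      rw [finrank_span_singleton hv, hf] at this
      omega
    rw [C.mem_span_singleton] at hpn
    push Not at hpn
    exact ⟨p, Finset.mem_filter.2 ⟨Finset.mem_univ _, C.mem_perp.1 (hle hp), hpn.1, hpn.2⟩, _, hA, hp⟩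
  have hcount : 𝒜.card * (2 ^ (j + 1) - 2) = P.card * k p0 := by
    have h1 : ∀ A ∈ 𝒜, (P.filter fun p => p ∈ A).card = 2 ^ (j + 1) - 2 := by
      intro A hA
      obtain ⟨hv', hle, hf⟩ := hmem A hA
      rw [← hf, ← hpair A hv', Nat.add_sub_cancel, hP, Finset.filter_filter]
      refine congrArg Finset.card (Finset.filter_congr fun p _ => ?_)
      exact ⟨fun h => ⟨h.2, h.1.2⟩, fun h => ⟨⟨C.mem_perp.1 (hle h.1), h.2⟩, h.1⟩⟩
    have h2 := Finset.sum_card_bipartiteAbove_eq_sum_card_bipartiteBelow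
      (fun (A : Submodule F V) (p : V) => p ∈ A) (s := 𝒜) (t := P)
    simp only [Finset.bipartiteAbove, Finset.bipartiteBelow] at h2
    rw [Finset.sum_congr rfl h1, Finset.sum_const, smul_eq_mul] at h2
    rw [h2, Finset.sum_congr rfl (g := fun _ => k p0) fun p hp =>
      le_antisymm (hkconst p hp p0 hp0A) (hkconst p0 hp0A p hp), Finset.sum_const, smul_eq_mul]
  have hk1 : 1 ≤ k p0 := Finset.card_pos.2 ⟨A0, Finset.mem_filter.2 ⟨hA0, hp0⟩⟩
  obtain ⟨-, f2, -, -, f4⟩ := C.pow_facts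
  have hJ : 2 ^ (j + 1) = 2 * 2 ^ j := by rw [pow_succ, mul_comm]
  have h2j : 2 ≤ 2 ^ j := by
    calc 2 = 2 ^ 1 := rfl
      _ ≤ 2 ^ j := Nat.pow_le_pow_right (by norm_num) (by omega)
  by_cases hk2 : 2 ≤ k p0 ∨ j = 1
  · rcases hk2 with hk2 | rfl
    · have h3 : P.card * 2 ≤ 𝒜.card * (2 ^ (j + 1) - 2) := hcount ▸ Nat.mul_le_mul_left _ hk2
      have h4 : 𝒜.card * (2 ^ (j + 1) - 2) ≤ 𝒜.card * (2 * 2 ^ j) := Nat.mul_le_mul_left _ (by omega)
      have h5 : 𝒜.card * (2 * 2 ^ j) = 2 * (𝒜.card * 2 ^ j) := by ring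
      omega
    · have h3 : P.card * 1 ≤ 𝒜.card * (2 ^ (1 + 1) - 2) := hcount ▸ Nat.mul_le_mul_left _ hk1
      rw [show (2 : ℕ) ^ (1 + 1) - 2 = 2 from rfl, mul_one] at h3
      rw [pow_one] at hN1
      omega
  push Not at hk2
  obtain ⟨hk2, hj2⟩ := hk2
  -- one member through each vector
  obtain ⟨y, hy, hA0eq⟩ := Finset.mem_image.1 hA0
  obtain ⟨hvA, hAle, hAf⟩ := hmem A0 hA0
  have key : ∀ p ∈ A0, p ≠ 0 → p ≠ v →
      C.Sbar v y = Submodule.span F {v} ⊔ Submodule.span F {p} := by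
    intro p hpA hp0' hpv
    have hpP : p ∈ P := Finset.mem_filter.2 ⟨Finset.mem_univ _, C.mem_perp.1 (hAle hpA), hp0', hpv⟩
    have hvp : v ∈ Submodule.span F {v} ⊔ Submodule.span F {p} :=
      Submodule.mem_sup_left (Submodule.mem_span_singleton_self v)
    have hpp : p ∈ Submodule.span F {v} ⊔ Submodule.span F {p} :=
      Submodule.mem_sup_right (Submodule.mem_span_singleton_self p)
    have hfX : finrank F ↥(Submodule.span F {v} ⊔ Submodule.span F {p}) = 2 := by
      rw [Submodule.finrank_sup_span_singleton (by rw [C.mem_span_singleton]; tauto), finrank_span_singleton hv]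
    have hor : ∀ a ∈ B.orthogonal (Submodule.span F {v} ⊔ Submodule.span F {p}),
        a ∈ A0 ∨ a ∈ C.Sbar v y := by
      intro a ha
      by_contra hcon
      push Not at hcon
      obtain ⟨haA, haS⟩ := hcon
      have hav : B v a = 0 := ha v hvp
      have hap : B p a = 0 := ha p hpp
      have htv : (C.τ a).1 v = v := by rw [C.τ_apply, hav, zero_smul, add_zero]
      have hmap : A0.map ((C.τ a).1 : V →ₗ[F] V) = A0 := by
        have hk' : k p ≤ 1 := by
          have := hkconst p hpP p0 hp0A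
          omega
        refine Finset.card_le_one.1 hk' _ (Finset.mem_filter.2 ⟨hstab _ htv A0 hA0, ⟨p, hpA, ?_⟩⟩) _
          (Finset.mem_filter.2 ⟨hA0, hpA⟩)
        show (C.τ a).1 p = p
        rw [C.τ_apply, hap, zero_smul, add_zero]
      apply haS
      have hoo : B.orthogonal A0 = C.Sbar v y := by
        rw [← hA0eq]; exact LinearMap.BilinForm.orthogonal_orthogonal C.nondeg C.alt.isRefl _
      rw [← hoo]
      intro q hq
      show B q a = 0
      rcases C.zero_or_one (B q a) with h | h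
      · exact h
      · exfalso
        have hq' : (C.τ a).1 q ∈ A0 := by
          rw [← hmap]; exact ⟨q, hq, rfl⟩
        rw [C.τ_apply, h, one_smul] at hq'
        exact haA ((Submodule.add_mem_iff_right _ hq).1 hq')
    by_cases hXA : B.orthogonal (Submodule.span F {v} ⊔ Submodule.span F {p}) ≤ A0
    · refine Submodule.eq_of_le_of_finrank_le ?_ ?_
      · have h := LinearMap.BilinForm.orthogonal_le (B := B) hXA
        rw [LinearMap.BilinForm.orthogonal_orthogonal C.nondeg C.alt.isRefl, ← hA0eq,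
          LinearMap.BilinForm.orthogonal_orthogonal C.nondeg C.alt.isRefl] at h
        exact h
      · rw [hfX, (Finset.mem_filter.1 hy).2]; exact hd1
    · obtain ⟨a, ha, haA⟩ := SetLike.not_le_iff_exists.1 hXA
      have hXS : B.orthogonal (Submodule.span F {v} ⊔ Submodule.span F {p}) ≤ C.Sbar v y := by
        intro b hb
        rcases hor b hb with hbA | hbS
        swap
        · exact hbS
        have haS := (hor a ha).resolve_left haA
        rcases hor (a + b) (add_mem ha hb) with h | h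
        · exact absurd ((Submodule.add_mem_iff_left _ hbA).1 h) haA
        · exact (Submodule.add_mem_iff_right _ haS).1 h
      have h := Submodule.finrank_mono (LinearMap.BilinForm.orthogonal_le (B := B) hXS)
      rw [LinearMap.BilinForm.orthogonal_orthogonal C.nondeg C.alt.isRefl, hA0eq, hAf, hfX] at h
      omega
  obtain ⟨-, hp00, hp0v⟩ : B v p0 = 0 ∧ p0 ≠ 0 ∧ p0 ≠ v := (Finset.mem_filter.1 hp0A).2
  obtain ⟨q, hq, hqn⟩ : ∃ q ∈ A0, q ∉ Submodule.span F {v} ⊔ Submodule.span F {p0} := by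
    by_contra hc
    push Not at hc
    have := Submodule.finrank_mono hc
    rw [Submodule.finrank_sup_span_singleton (by rw [C.mem_span_singleton]; tauto),
      finrank_span_singleton hv, hAf] at this
    omega
  have hq0 : q ≠ 0 := fun h => hqn (h ▸ Submodule.zero_mem _)
  have hqv : q ≠ v := fun h => hqn (by rw [h]; exact Submodule.mem_sup_left (Submodule.mem_span_singleton_self v))
  rw [← key p0 hp0 hp00 hp0v, key q hq hq0 hqv] at hqn
  exact hqn (Submodule.mem_sup_right (Submodule.mem_span_singleton_self q))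

end Cfsg.Lib.Linear.MinIndexSpTwo
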