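import Cfsg.Agent.Lib.Linear.MinIndexSpTwo.Orbits

/-!
# A symplectic group over the field with two elements has no small transitive action
-/

set_option autoImplicit false
set_option linter.unusedSectionVars false

namespace Cfsg.Lib.Linear.MinIndexSpTwo

open Module

variable {F V : Type*} [Field F] [AddCommGroup V] [Module F V] {B : LinearMap.BilinForm F V} {m : ℕ}
  (C : Sp2 B m) {Ω : Type*} [MulAction (Symp.iso B) Ω] [Finite Ω]
include C

theorem Sp2.flip {a b c : V} (h : a + b = c) : b = c + a := by
  rw [← h, add_right_comm, C.add_self, zero_add]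

/-- If one transvection fixes every point then the group fixes every point. -/
theorem Sp2.trivial_of_τ {v : V} (hv : v ≠ 0) (h : ∀ y : Ω, C.τ v • y = y) (g : Symp.iso B) (y : Ω) :
    g • y = y := by
  have hg : g ∈ (MulAction.toPermHom (Symp.iso B) Ω).ker := by
    have htop : (⊤ : Subgroup (Symp.iso B)) ≤ (MulAction.toPermHom (Symp.iso B) Ω).ker := by
      rw [← C.closure_τ, Subgroup.closure_le]
      rintro _ ⟨w, hw, rfl⟩
      obtain ⟨k, rfl⟩ := C.exists_map hv hw
      rw [SetLike.mem_coe, MonoidHom.mem_ker]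
      ext z
      show C.τ (k.1 v) • z = z
      conv_lhs => rw [← smul_inv_smul k z, C.smul_τ, h]
      exact smul_inv_smul k z
    exact htop (Subgroup.mem_top g)
  exact Equiv.congr_fun (MonoidHom.mem_ker.1 hg) y

theorem Sp2.card_orb_span {v : V} (hv : v ≠ 0) {x : Ω} (hx : C.Sbar v x = Submodule.span F {v}) :
    2 ^ (2 * m - 2) ≤ Nat.card (C.orb v x) := by
  have h := C.card_orb hv x
  rw [hx, finrank_span_singleton hv, show 2 * m - 1 = (2 * m - 2) + 1 by have := C.hm; omega, pow_add] at h
  exact Nat.le_of_mul_le_mul_right h (by norm_num)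

theorem Sp2.τ_fix_of_span (hN : Nat.card Ω + 2 ^ (m - 1) < 2 ^ (2 * m - 1)) {v : V} (hv : v ≠ 0) {x : Ω}
    (hx : C.Sbar v x = Submodule.span F {v}) : C.τ v • x = x := by
  by_contra hne
  let f : C.orb v x ⊕ C.orb v x → Ω := Sum.elim (fun z => z.1) fun z => C.τ v • z.1
  have hcross : ∀ z z' : C.orb v x, z.1 ≠ C.τ v • z'.1 := by
    rintro ⟨_, a, rfl⟩ ⟨_, b, rfl⟩ h
    simp only at h
    have ha := C.mem_perp.1 a.2
    have hb := C.mem_perp.1 b.2
    rw [← C.H_τ_smul hb] at h
    have h' : C.H v b.1 • C.H v a.1 • x = C.τ v • x := by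
      rw [h, smul_smul, C.H_mul_self hb, one_smul]
    have hab : b.1 + a.1 ∈ C.Sbar v x := by
      refine ⟨by rw [map_add, ha, hb, add_zero], ?_⟩
      rcases C.H_smul_cases hb ha x with h'' | h'' <;> rw [h'', h']
      · exact Or.inr rfl
      · exact Or.inl (C.τ_smul_smul v x)
    rw [hx, C.mem_span_singleton] at hab
    have heq : C.H v a.1 = C.H v b.1 := by
      rcases hab with h0 | h0
      · rw [C.eq_of_add_eq_zero h0]
      · rw [C.flip h0, C.H_add_self hb]
    rw [heq, smul_smul, C.H_mul_self hb, one_smul] at h'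
    exact hne h'.symm
  have hf : Function.Injective f := by
    rintro (z | z) (z' | z') h
    · exact congrArg Sum.inl (Subtype.ext h)
    · exact absurd h (hcross z z')
    · exact absurd h.symm (hcross z' z)
    · exact congrArg Sum.inr (Subtype.ext (smul_left_cancel (C.τ v) h))
  have h1 := Nat.card_le_card_of_injective f hf
  have h2 := C.card_orb_span hv hx
  obtain ⟨-, f1, f2, -, f4⟩ := C.pow_facts
  rw [Nat.card_sum] at h1
  omega

open scoped Classical in
/-- The sign telling whether `H v a` fixes `x`. -/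
noncomputable def Sp2.sgn (v : V) (x : Ω) (a : V) : ℤ := if C.H v a • x = x then -1 else 1

theorem Sp2.sgn_pm (v : V) (x : Ω) (a : V) : C.sgn v x a = 1 ∨ C.sgn v x a = -1 := by
  classical
  rw [Sp2.sgn]
  split_ifs
  · exact Or.inr rfl
  · exact Or.inl rfl

theorem Sp2.sgn_of_fix {v a : V} {x : Ω} (h : C.H v a • x = x) : C.sgn v x a = -1 := by
  classical
  rw [Sp2.sgn, if_pos h]

theorem Sp2.sgn_of_move {v a : V} {x : Ω} (hne : C.τ v • x ≠ x) (h : C.H v a • x = C.τ v • x) :
    C.sgn v x a = 1 := by
  classical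
  rw [Sp2.sgn, if_neg (by rwa [h])]

theorem Sp2.sgn_add {v : V} {x : Ω} (hne : C.τ v • x ≠ x)
    (hfull : C.Sbar v x = B.orthogonal (Submodule.span F {v})) {a b : V} (ha : B v a = 0) (hb : B v b = 0) :
    C.sgn v x (a + b) = C.sgn v x a * C.sgn v x b * chi (B a b) := by
  have hA := (show a ∈ C.Sbar v x by rw [hfull]; exact C.mem_perp.2 ha).2
  have hB := (show b ∈ C.Sbar v x by rw [hfull]; exact C.mem_perp.2 hb).2
  rcases C.zero_or_one (B a b) with h | h
  · have e : C.H v (a + b) • x = C.τ v • C.H v a • C.H v b • x := by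
      rw [smul_smul (C.H v a), C.H_mul_zero ha hb h, mul_smul, C.τ_smul_smul]
    rw [h, chi_zero]
    rcases hA with ea | ea <;> rcases hB with eb | eb <;> rw [eb] at e
    · rw [ea] at e
      rw [C.sgn_of_move hne e, C.sgn_of_fix ea, C.sgn_of_fix eb]; norm_num
    · rw [C.H_τ_smul ha, ea, C.τ_smul_smul] at e
      rw [C.sgn_of_fix e, C.sgn_of_fix ea, C.sgn_of_move hne eb]; norm_num
    · rw [ea, C.τ_smul_smul] at e
      rw [C.sgn_of_fix e, C.sgn_of_move hne ea, C.sgn_of_fix eb]; norm_num
    · rw [C.H_τ_smul ha, ea, C.τ_smul_smul] at e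
      rw [C.sgn_of_move hne e, C.sgn_of_move hne ea, C.sgn_of_move hne eb]; norm_num
  · have e : C.H v (a + b) • x = C.H v a • C.H v b • x := by
      rw [smul_smul (C.H v a), C.H_mul_one ha hb h]
    rw [h, chi_one]
    rcases hA with ea | ea <;> rcases hB with eb | eb <;> rw [eb] at e
    · rw [ea] at e
      rw [C.sgn_of_fix e, C.sgn_of_fix ea, C.sgn_of_fix eb]; norm_num
    · rw [C.H_τ_smul ha, ea] at e
      rw [C.sgn_of_move hne e, C.sgn_of_fix ea, C.sgn_of_move hne eb]; norm_num
    · rw [ea] at e
      rw [C.sgn_of_move hne e, C.sgn_of_move hne ea, C.sgn_of_fix eb]; norm_num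
    · rw [C.H_τ_smul ha, ea, C.τ_smul_smul] at e
      rw [C.sgn_of_fix e, C.sgn_of_move hne ea, C.sgn_of_move hne eb]; norm_num

/-- The number of vectors of positive sign. -/
theorem Sp2.card_sgn_pos {v : V} (hv : v ≠ 0) {x : Ω} (hne : C.τ v • x ≠ x)
    (hfull : C.Sbar v x = B.orthogonal (Submodule.span F {v})) :
    2 ^ (2 * m - 2) ≤ Nat.card {a : B.orthogonal (Submodule.span F {v}) // C.sgn v x a.1 = 1} + 2 ^ (m - 1) := by
  haveI := C.finite
  haveI := Fintype.ofFinite (B.orthogonal (Submodule.span F {v}))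
  obtain ⟨h1, h2⟩ := C.sign_sum (B.orthogonal (Submodule.span F {v})) (Submodule.span F {v}) (C.sgn v x)
    (fun a _ => C.sgn_pm v x a) (fun a ha b hb => C.sgn_add hne hfull (C.mem_perp.1 ha) (C.mem_perp.1 hb))
    ((Submodule.span_singleton_le_iff_mem _ _).2 (C.mem_perp.2 (C.self v)))
    (fun c hc a ha => by
      rcases C.mem_span_singleton.1 hc with rfl | rfl
      · simp
      · rw [C.symm]; exact C.mem_perp.1 ha)
    (fun c hc => by
      rcases C.mem_span_singleton.1 hc with rfl | rfl
      · exact C.sgn_of_move hne (by rw [C.H_zero])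
      · exact C.sgn_of_move hne (by rw [C.H_self]))
    (fun c _ hc => by
      obtain ⟨a, ha, hca⟩ := C.exists_sep _ hc
      exact ⟨a, C.mem_perp.2 (ha v (Submodule.mem_span_singleton_self v)), by rw [C.symm]; exact hca⟩)
  rw [C.card_perp hv, C.card_submodule, finrank_span_singleton hv] at h1
  rw [C.card_perp hv] at h2
  obtain ⟨-, f1, f2, -, f4⟩ := C.pow_facts
  set S := ∑ a : B.orthogonal (Submodule.span F {v}), C.sgn v x a.1
  set Z := Nat.card {a : B.orthogonal (Submodule.span F {v}) // C.sgn v x a.1 = 1}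
  rw [f1] at h1 h2
  rw [f2]
  push_cast at h1 h2
  have hP : (0 : ℤ) ≤ ((2 ^ (m - 1) : ℕ) : ℤ) := Int.natCast_nonneg _
  push_cast at hP
  have hS : |S| = 2 * 2 ^ (m - 1) := by
    have : S ^ 2 = (2 * 2 ^ (m - 1)) ^ 2 := by rw [h1]; ring
    rw [← abs_of_nonneg (show (0 : ℤ) ≤ 2 * 2 ^ (m - 1) by positivity)]
    exact (sq_eq_sq_iff_abs_eq_abs _ _).1 this
  have hS' := neg_abs_le S
  rw [← Int.ofNat_le]
  push_cast
  linarith

theorem Sp2.sgn_τ {v a w : V} {x : Ω} (hne : C.τ v • x ≠ x)
    (hfull : C.Sbar v x = B.orthogonal (Submodule.span F {v})) (ha : B v a = 0) (hsa : C.sgn v x a = 1)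
    (hw : B v w = 0) : C.sgn v (C.τ a • x) w = chi (B w a) * C.sgn v x w := by
  have htv : (C.τ a).1 v = v := by rw [C.τ_apply, ha, zero_smul, add_zero]
  have key : C.sgn v (C.τ a • x) w = C.sgn v x ((C.τ a).1 w) := by
    classical
    have h := C.smul_H (C.τ a) v ((C.τ a).1 w) x
    have hww : (C.τ a).1 ((C.τ a).1 w) = w := by
      show (C.τ a * C.τ a).1 w = w
      rw [C.τ_mul_self]; rfl
    rw [htv, hww] at h
    simp only [Sp2.sgn, h, smul_left_cancel_iff]
  rw [key, C.τ_apply]
  rcases C.zero_or_one (B w a) with h | h <;> rw [h]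
  · rw [zero_smul, add_zero, chi_zero, one_mul]
  · rw [one_smul, C.sgn_add hne hfull hw ha, hsa, h, chi_one]; ring

/-- No orbit of a radical is regular. -/
theorem Sp2.Sbar_full [MulAction.IsPretransitive (Symp.iso B) Ω] (hN1 : 2 ≤ Nat.card Ω)
    (hN : Nat.card Ω + 2 ^ (m - 1) < 2 ^ (2 * m - 1)) {v : V} (hv : v ≠ 0) (x : Ω) :
    C.Sbar v x = B.orthogonal (Submodule.span F {v}) := by
  rcases C.Sbar_cases hN hv x with h | hx
  · exact h
  exfalso
  haveI := C.finite
  by_cases hall : ∀ y : Ω, C.τ v • y = y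
  · have : Subsingleton Ω := ⟨fun a b => by
      obtain ⟨g, rfl⟩ := MulAction.exists_smul_eq (Symp.iso B) a b
      rw [C.trivial_of_τ hv hall]⟩
    have := Finite.card_le_one_iff_subsingleton.2 this
    omega
  push Not at hall
  obtain ⟨y, hy⟩ := hall
  have hfull : C.Sbar v y = B.orthogonal (Submodule.span F {v}) :=
    (C.Sbar_cases hN hv y).resolve_right fun h => hy (C.τ_fix_of_span hN hv h)
  have hxf := C.τ_fix_of_span hN hv hx
  let f : C.orb v x ⊕ {a : B.orthogonal (Submodule.span F {v}) // C.sgn v y a.1 = 1} → Ω :=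
    Sum.elim (fun z => z.1) fun a => C.τ a.1.1 • y
  have hmove : ∀ a : {a : B.orthogonal (Submodule.span F {v}) // C.sgn v y a.1 = 1},
      C.τ v • C.τ a.1.1 • y ≠ C.τ a.1.1 • y := by
    intro a h
    rw [smul_smul, C.τ_comm (C.mem_perp.1 a.1.2), mul_smul, smul_left_cancel_iff] at h
    exact hy h
  have hf : Function.Injective f := by
    rintro (z | a) (z' | b) h
    · exact congrArg Sum.inl (Subtype.ext h)
    · have h' : (z : Ω) = C.τ b.1.1 • y := h
      exact absurd (h' ▸ C.orb_fix hxf z.2) (hmove b)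
    · have h' : C.τ a.1.1 • y = (z' : Ω) := h
      exact absurd (h'.symm ▸ C.orb_fix hxf z'.2) (hmove a)
    · have h' : C.τ a.1.1 • y = C.τ b.1.1 • y := h
      refine congrArg Sum.inr (Subtype.ext (Subtype.ext ?_))
      have ha := C.mem_perp.1 a.1.2
      have hb := C.mem_perp.1 b.1.2
      have hspan : a.1.1 + b.1.1 ∈ Submodule.span F {v} := by
        by_contra hc
        obtain ⟨w, hw, hw1⟩ := C.exists_sep _ hc
        have hvw := hw v (Submodule.mem_span_singleton_self v)
        have e := C.sgn_τ hy hfull ha a.2 hvw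
        rw [h', C.sgn_τ hy hfull hb b.2 hvw] at e
        have e' : chi (B w b.1.1) = chi (B w a.1.1) := by
          rcases C.sgn_pm v y w with hs | hs <;> rw [hs] at e <;> linarith
        rw [C.symm, map_add] at hw1
        rcases C.zero_or_one (B w a.1.1) with p | p <;> rcases C.zero_or_one (B w b.1.1) with r | r <;>
          simp only [p, r, chi_zero, chi_one] at e' hw1
        · simp at hw1
        · norm_num at e'
        · norm_num at e'
        · rw [one_add_one_eq_two, C.two_eq_zero] at hw1
          exact zero_ne_one hw1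
      rcases C.mem_span_singleton.1 hspan with h0 | h0
      · exact C.eq_of_add_eq_zero h0
      · exfalso
        have hb' : b.1.1 = v + a.1.1 := C.flip h0
        have hH : C.H v a.1.1 • y = y := by
          rw [Sp2.H, mul_smul, ← hb', ← h', C.τ_smul_smul]
        have := a.2
        rw [C.sgn_of_fix hH] at this
        norm_num at this
  have h1 := Nat.card_le_card_of_injective f hf
  rw [Nat.card_sum] at h1
  have h2 := C.card_orb_span hv hx
  have h3 := C.card_sgn_pos hv hy hfull
  obtain ⟨-, f1, f2, -, f4⟩ := C.pow_facts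
  omega

variable [MulAction.IsPretransitive (Symp.iso B) Ω]

/-- The vectors whose transvections fix `x`, with zero. -/
def Sp2.Tfix (hN1 : 2 ≤ Nat.card Ω) (hN : Nat.card Ω + 2 ^ (m - 1) < 2 ^ (2 * m - 1)) (x : Ω) :
    Submodule F V where
  carrier := {v | C.τ v • x = x}
  zero_mem' := by show C.τ 0 • x = x; rw [C.τ_zero, one_smul]
  add_mem' := by
    intro a b ha hb
    show C.τ (a + b) • x = x
    rcases C.zero_or_one (B a b) with h | h
    · rcases eq_or_ne a 0 with rfl | ha0
      · rwa [zero_add]
      have hb' : b ∈ C.Sbar a x := by rw [C.Sbar_full hN1 hN ha0 x]; exact C.mem_perp.2 h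
      have hH : C.H a b • x = x := by
        rcases hb'.2 with e | e
        · exact e
        · exact e.trans ha
      rw [Sp2.H, mul_smul] at hH
      have := congrArg (fun z => C.τ b • z) hH
      simp only [C.τ_smul_smul] at this
      exact this.trans hb
    · rw [← C.τ_braid h, mul_smul, mul_smul, ha, hb, ha]
  smul_mem' := by
    intro c a ha
    rcases C.zero_or_one c with rfl | rfl
    · show C.τ ((0 : F) • a) • x = x
      rw [zero_smul, C.τ_zero, one_smul]
    · rwa [one_smul]

set_option maxHeartbeats 1000000 in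
/-- A symplectic group over the field with two elements has no small transitive action. -/
theorem Sp2.no_small (hN1 : 2 ≤ Nat.card Ω) :
    2 ^ (2 * m - 1) ≤ Nat.card Ω + 2 ^ (m - 1) := by
  classical
  by_contra hlt
  push Not at hlt
  haveI := C.finite
  haveI := C.finiteDimensional
  haveI := Fintype.ofFinite Ω
  haveI := Fintype.ofFinite V
  obtain ⟨f0, f1, f2, f3, f4⟩ := C.pow_facts
  have hmem : ∀ x v, v ∈ C.Tfix hN1 hlt x ↔ C.τ v • x = x := fun _ _ => Iff.rfl
  have hH : ∀ {v w : V} {x : Ω}, v ≠ 0 → B v w = 0 → C.H v w • x = x ∨ C.H v w • x = C.τ v • x :=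
    fun {v w x} hv hw => (show w ∈ C.Sbar v x by rw [C.Sbar_full hN1 hlt hv x]; exact C.mem_perp.2 hw).2
  -- the subspaces are totally isotropic
  have hiso : ∀ x, ∀ v ∈ C.Tfix hN1 hlt x, ∀ u ∈ C.Tfix hN1 hlt x, B v u = 0 := by
    intro x v hv u hu
    refine (C.zero_or_one (B v u)).resolve_right fun h => ?_
    have hv0 : v ≠ 0 := fun e => by simp [e] at h
    have hw : ∀ w, B v w = 0 → w ∈ C.Tfix hN1 hlt x := by
      intro w hw
      have hfix : C.H v w • x = x := by
        rcases hH hv0 hw (x := x) with e | e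
        · exact e
        · exact e.trans hv
      have h1 : (C.H v w).1 u ∈ C.Tfix hN1 hlt x := by
        have := C.smul_τ (C.H v w) u x
        rwa [hfix, show C.τ u • x = x from hu, hfix] at this
      rw [C.H_apply hw, C.symm u v, h, one_smul] at h1
      rw [show w = (u + (v + w) + B u w • v) - u - v - B u w • v by abel]
      exact sub_mem (sub_mem (sub_mem h1 hu) hv) (Submodule.smul_mem _ _ hv)
    have hall : ∀ w, w ∈ C.Tfix hN1 hlt x := by
      intro w
      rcases C.zero_or_one (B v w) with h0 | h0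
      · exact hw w h0
      · rw [show w = u + (u + w) by rw [← add_assoc, C.add_self, zero_add]]
        refine add_mem hu (hw _ ?_)
        rw [map_add, h, h0, one_add_one_eq_two, C.two_eq_zero]
    have hstab : (⊤ : Subgroup (Symp.iso B)) ≤ MulAction.stabilizer (Symp.iso B) x := by
      rw [← C.closure_τ, Subgroup.closure_le]
      rintro _ ⟨w, -, rfl⟩
      exact hall w
    have : Subsingleton Ω := ⟨fun a b => by
      obtain ⟨g, rfl⟩ := MulAction.exists_smul_eq (Symp.iso B) x a
      obtain ⟨g', rfl⟩ := MulAction.exists_smul_eq (Symp.iso B) x b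
      rw [hstab (Subgroup.mem_top g), hstab (Subgroup.mem_top g')]⟩
    have := Finite.card_le_one_iff_subsingleton.2 this
    omega
  have hconst : ∀ x y, finrank F (C.Tfix hN1 hlt x) = finrank F (C.Tfix hN1 hlt y) := by
    intro x y
    obtain ⟨g, rfl⟩ := MulAction.exists_smul_eq (Symp.iso B) x y
    have : (C.Tfix hN1 hlt x).map (g.1 : V →ₗ[F] V) = C.Tfix hN1 hlt (g • x) := by
      ext z
      constructor
      · rintro ⟨w, hw, rfl⟩
        rw [hmem]
        show C.τ (g.1 w) • g • x = g • x
        rw [C.smul_τ, show C.τ w • x = x from hw]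
      · intro hz
        have hz' : z = g.1 ((g⁻¹).1 z) := by
          show z = (g * g⁻¹).1 z
          rw [mul_inv_cancel]; rfl
        refine ⟨(g⁻¹).1 z, ?_, hz'.symm⟩
        rw [SetLike.mem_coe, hmem]
        rw [hmem, hz', C.smul_τ, smul_left_cancel_iff] at hz
        exact hz
    rw [← this]
    exact (LinearEquiv.finrank_map_eq g.1 _).symm
  obtain ⟨x⟩ : Nonempty Ω := (Nat.card_pos_iff.1 (by omega)).1
  set s := finrank F (C.Tfix hN1 hlt x) with hs
  have hsm : s ≤ m := by
    have h := Submodule.finrank_mono (show C.Tfix hN1 hlt x ≤ B.orthogonal (C.Tfix hN1 hlt x) from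
      fun u hu v hv => hiso x v hv u hu)
    rw [C.finrank_orth] at h
    omega
  have hTcard : ∀ y : Ω, (Finset.univ.filter fun v : V => v ≠ 0 ∧ C.τ v • y = y).card + 1 = 2 ^ s := by
    intro y
    rw [hs, hconst x y, ← C.card_submodule, Nat.card_eq_fintype_card, Fintype.card_subtype]
    have : (Finset.univ.filter fun v : V => v ∈ C.Tfix hN1 hlt y) =
        insert 0 (Finset.univ.filter fun v : V => v ≠ 0 ∧ C.τ v • y = y) := by
      ext v
      simp only [Finset.mem_insert, Finset.mem_filter, Finset.mem_univ, true_and, hmem]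
      constructor
      · tauto
      · rintro (rfl | h)
        · rw [C.τ_zero, one_smul]
        · exact h.2
    rw [this, Finset.card_insert_of_notMem (by simp)]
  rcases Nat.eq_zero_or_pos s with hs0 | hspos
  · -- no transvection has a fixed point
    have hfree : ∀ y : Ω, ∀ v : V, v ≠ 0 → C.τ v • y ≠ y := by
      intro y v hv h
      have h0 := hTcard y
      rw [hs0, pow_zero, Nat.add_eq_right, Finset.card_eq_zero, Finset.filter_eq_empty_iff] at h0
      exact h0 (Finset.mem_univ v) ⟨hv, h⟩
    have mono : ∀ a b : V, a ≠ 0 → b ≠ 0 → a ≠ b → B a b = 0 →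
        C.τ b • x = C.τ (a + b) • x → C.τ a • x = C.τ b • x := by
      intro a b ha hb hab hB heq
      have hu : a + b ≠ 0 := fun e => hab (C.eq_of_add_eq_zero e)
      have hba : B (a + b) a = 0 := by rw [map_add, LinearMap.add_apply, C.self, C.symm b a, hB, add_zero]
      have hh : (a + b) + a = b := by rw [add_right_comm, C.add_self, zero_add]
      rcases hH hu hba (x := x) with e | e <;> rw [Sp2.H, hh, mul_smul] at e
      · have := congrArg (fun z => C.τ a • z) e
        simp only [C.τ_smul_smul] at this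
        exact this.symm
      · rw [← heq] at e
        exact absurd e (hfree _ a ha)
    obtain ⟨v, hv⟩ : ∃ v : V, v ≠ 0 := by
      haveI : Nontrivial V := Module.finrank_pos_iff.1 (by rw [C.dim]; have := C.hm; omega : 0 < finrank F V)
      exact exists_ne 0
    have hne := hfree x v hv
    obtain ⟨w, hw, hwfix⟩ : ∃ w, B v w = 0 ∧ C.H v w • x = x := by
      by_contra hc
      push Not at hc
      obtain ⟨p, hp, hpv⟩ : ∃ p ∈ B.orthogonal (Submodule.span F {v}), p ∉ Submodule.span F {v} := by
        by_contra h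
        push Not at h
        have := Submodule.finrank_mono h
        rw [C.finrank_perp hv, finrank_span_singleton hv] at this
        have := C.hm
        omega
      obtain ⟨q, hq, hpq⟩ := C.exists_sep _ hpv
      have hp' := C.mem_perp.1 hp
      have hq' := hq v (Submodule.mem_span_singleton_self v)
      have hpq' : B v (p + q) = 0 := by rw [map_add, hp', hq', add_zero]
      have e1 := C.H_mul_one hp' hq' hpq
      have e2 : C.H v (p + q) • x = x := by
        rw [← e1, mul_smul, (hH hv hq').resolve_left (hc q hq'), C.H_τ_smul hp',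
          (hH hv hp').resolve_left (hc p hp'), C.τ_smul_smul]
      exact hc _ hpq' e2
    have hw0 : w ≠ 0 := fun e => by rw [e, C.H_zero] at hwfix; exact hne hwfix
    have hwv : w ≠ v := fun e => by rw [e, C.H_self] at hwfix; exact hne hwfix
    obtain ⟨w', hw', hww', hwn, hw'fix⟩ : ∃ w', B v w' = 0 ∧ B w w' = 0 ∧
        w' ∉ Submodule.span F {v} ⊔ Submodule.span F {w} ∧ C.H v w' • x = x := by
      set X := Submodule.span F {v} ⊔ Submodule.span F {w} with hX
      have hfX : finrank F X = 2 := by
        rw [hX, Submodule.finrank_sup_span_singleton (by rw [C.mem_span_singleton]; tauto), finrank_span_singleton hv]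
      obtain ⟨a, ha, haX⟩ : ∃ a ∈ B.orthogonal X, a ∉ X := by
        by_contra h
        push Not at h
        have := Submodule.finrank_mono h
        rw [C.finrank_orth, hfX] at this
        have := C.hm
        omega
      have hav : B v a = 0 := ha v (Submodule.mem_sup_left (Submodule.mem_span_singleton_self v))
      have haw : B w a = 0 := ha w (Submodule.mem_sup_right (Submodule.mem_span_singleton_self w))
      rcases hH hv hav (x := x) with e | e
      · exact ⟨a, hav, haw, haX, e⟩
      · refine ⟨a + w, by rw [map_add, hav, hw, add_zero], by rw [map_add, haw, C.self, add_zero],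
          fun h => haX ((Submodule.add_mem_iff_left _
            (Submodule.mem_sup_right (Submodule.mem_span_singleton_self w))).1 h), ?_⟩
        have e1 := C.H_mul_zero hav hw (by rw [C.symm]; exact haw)
        have e2 := congrArg (fun g : Symp.iso B => g • x) e1
        simp only [mul_smul, hwfix, e] at e2
        exact (smul_left_cancel _ e2).symm
    have hw'0 : w' ≠ 0 := fun e => hwn (e ▸ Submodule.zero_mem _)
    have hw'v : w' ≠ v := fun e => hwn (by rw [e]; exact Submodule.mem_sup_left (Submodule.mem_span_singleton_self v))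
    have hw'w : w' ≠ w := fun e => hwn (by rw [e]; exact Submodule.mem_sup_right (Submodule.mem_span_singleton_self w))
    have hsum0 : w + w' ≠ 0 := fun e => hw'w (C.eq_of_add_eq_zero e).symm
    have hsumv : w + w' ≠ v := fun e => hwn (by
      rw [show w' = v + w by rw [← e, add_right_comm, C.add_self, zero_add]]
      exact add_mem (Submodule.mem_sup_left (Submodule.mem_span_singleton_self v))
        (Submodule.mem_sup_right (Submodule.mem_span_singleton_self w)))
    have line : ∀ a, C.H v a • x = x → C.τ a • x = C.τ (v + a) • x := by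
      intro a h
      rw [Sp2.H, mul_smul] at h
      have := congrArg (fun z => C.τ a • z) h
      simp only [C.τ_smul_smul] at this
      exact this.symm
    have c1 := mono v w hv hw0 (Ne.symm hwv) hw (line w hwfix)
    have c2 := mono v w' hv hw'0 (Ne.symm hw'v) hw' (line w' hw'fix)
    have hvs : B v (w + w') = 0 := by rw [map_add, hw, hw', add_zero]
    have c3 : C.τ (w + w') • x = C.τ w • x := by
      refine mono (w + w') w hsum0 hw0 (fun e => hw'0 (by simpa using e)) ?_ ?_
      · rw [map_add, LinearMap.add_apply, C.self, C.symm w' w, hww', add_zero]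
      · rw [show w + w' + w = w' by rw [add_right_comm, C.add_self, zero_add], ← c1, c2]
    have c4 : C.τ (v + (w + w')) • x = C.τ v • x := by
      refine mono (v + (w + w')) v (fun e => hsumv (C.eq_of_add_eq_zero e).symm) hv
        (fun e => hsum0 (by simpa using e)) ?_ ?_
      · rw [map_add, LinearMap.add_apply, C.self, C.symm (w + w') v, hvs, add_zero]
      · rw [show v + (w + w') + v = w + w' by rw [add_right_comm, C.add_self, zero_add], c3, c1]
    have hfix : C.H v (w + w') • x = x := by
      rw [Sp2.H, mul_smul, c4, c1, ← c3, C.τ_smul_smul]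
    have e1 := congrArg (fun g : Symp.iso B => g • x) (C.H_mul_zero hw hw' hww')
    simp only [mul_smul, hfix, hw'fix, hwfix] at e1
    exact hne e1.symm
  -- the fixed points of a transvection are many
  obtain ⟨v, hv0, hvx⟩ : ∃ v, v ≠ 0 ∧ C.τ v • x = x := by
    have h0 := hTcard x
    have : 2 ≤ 2 ^ s := le_trans (by norm_num) (Nat.pow_le_pow_right (by norm_num) hspos)
    obtain ⟨v, hv⟩ := Finset.card_pos.1 (show 0 < (Finset.univ.filter fun v : V => v ≠ 0 ∧ C.τ v • x = x).card by omega)
    exact ⟨v, (Finset.mem_filter.1 hv).2⟩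
  set Fx : V → Finset Ω := fun u => Finset.univ.filter fun y => C.τ u • y = y with hFx
  have hFle : ∀ u u' : V, u ≠ 0 → u' ≠ 0 → (Fx u).card ≤ (Fx u').card := by
    intro u u' hu hu'
    obtain ⟨g, rfl⟩ := C.exists_map hu hu'
    refine Finset.card_le_card_of_injOn (fun y => g • y) (fun y hy => ?_) fun a _ b _ h => smul_left_cancel g h
    rw [Finset.mem_coe, hFx, Finset.mem_filter] at hy ⊢
    exact ⟨Finset.mem_univ _, by rw [C.smul_τ, hy.2]⟩
  have hcount : Nat.card Ω * (2 ^ s - 1) = (2 ^ (2 * m) - 1) * (Fx v).card := by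
    have h := Finset.sum_card_bipartiteAbove_eq_sum_card_bipartiteBelow
      (fun (y : Ω) (u : V) => C.τ u • y = y) (s := (Finset.univ : Finset Ω)) (t := Finset.univ.erase (0 : V))
    simp only [Finset.bipartiteAbove, Finset.bipartiteBelow] at h
    rw [Finset.sum_congr rfl (g := fun _ => 2 ^ s - 1) (fun y _ => by
        rw [← hTcard y, Nat.add_sub_cancel]
        refine congrArg Finset.card ?_
        ext u
        simp),
      Finset.sum_congr rfl (g := fun _ => (Fx v).card) (fun u hu =>
        le_antisymm (hFle u v (Finset.ne_of_mem_erase hu) hv0) (hFle v u hv0 (Finset.ne_of_mem_erase hu))),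
      Finset.sum_const, Finset.sum_const, smul_eq_mul, smul_eq_mul, Finset.card_univ,
      Finset.card_erase_of_mem (Finset.mem_univ _), Finset.card_univ] at h
    rw [Nat.card_eq_fintype_card, h]
    congr 2
    have hV := C.card_submodule (⊤ : Submodule F V)
    rw [finrank_top, C.dim, Nat.card_congr Submodule.topEquiv.toEquiv, Nat.card_eq_fintype_card] at hV
    exact hV
  have hFpos : 1 ≤ (Fx v).card := Finset.card_pos.2 ⟨x, Finset.mem_filter.2 ⟨Finset.mem_univ _, hvx⟩⟩
  have hs2 : 2 ≤ s := by
    by_contra h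
    rw [show s = 1 by omega, pow_one, show 2 - 1 = 1 from rfl, mul_one] at hcount
    have : 2 ^ (2 * m) - 1 ≤ Nat.card Ω := hcount ▸ Nat.le_mul_of_pos_right _ hFpos
    omega
  set T := C.Tfix hN1 hlt x with hT
  set D := Finset.univ.filter fun w : V => B v w = 0 ∧ w ∉ B.orthogonal T with hD
  have hvT : v ∈ T := hvx
  have hD1 : D.card + 2 ^ (2 * m - s) = 2 ^ (2 * m - 1) := by
    rw [← C.finrank_perp hv0, hs, ← C.finrank_orth, ← C.card_submodule, ← C.card_submodule,
      Nat.card_eq_fintype_card, Nat.card_eq_fintype_card, Fintype.card_subtype, Fintype.card_subtype,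
      ← Finset.card_union_of_disjoint]
    · refine congrArg Finset.card ?_
      ext w
      simp only [hD, Finset.mem_union, Finset.mem_filter, Finset.mem_univ, true_and, C.mem_perp]
      constructor
      · rintro (h | h)
        · exact h.1
        · exact h v hvT
      · tauto
    · rw [Finset.disjoint_left]
      intro w h h'
      exact (Finset.mem_filter.1 h).2.2 (Finset.mem_filter.1 h').2
  have hfib : ∀ y ∈ D.image (fun w => C.τ w • x), (D.filter fun w => C.τ w • x = y).card ≤ 2 ^ (s - 1) := by
    intro y hy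
    obtain ⟨w, hw, rfl⟩ := Finset.mem_image.1 hy
    simp only [hD, Finset.mem_filter, Finset.mem_univ, true_and] at hw
    obtain ⟨hvw, hwT⟩ := hw
    have hnot : w ∉ T := fun h => hwT fun u hu => hiso x u hu w h
    obtain ⟨t, ht, htw⟩ : ∃ t ∈ T, B t w = 1 := by
      by_contra hc
      push Not at hc
      exact hwT fun t ht => (C.zero_or_one _).resolve_right (hc t ht)
    have hsub : finrank F ↥(T ⊓ B.orthogonal (Submodule.span F {w})) ≤ s - 1 := by
      have h := Submodule.finrank_lt_finrank_of_lt (lt_of_le_of_ne (inf_le_left : T ⊓ B.orthogonal (Submodule.span F {w}) ≤ T) (fun e => by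
        have := C.mem_perp.1 ((e.ge ht).2)
        rw [C.symm, htw] at this
        exact one_ne_zero this))
      rw [← hs] at h
      omega
    have hcardT : Nat.card ↥(T ⊓ B.orthogonal (Submodule.span F {w})) ≤ 2 ^ (s - 1) := by
      rw [C.card_submodule]; exact Nat.pow_le_pow_right (by norm_num) hsub
    refine le_trans ?_ hcardT
    rw [Nat.card_eq_fintype_card, Fintype.card_subtype]
    refine Finset.card_le_card_of_injOn (fun w' => w + w') (fun w' hw' => ?_) fun a _ b _ h => add_left_cancel h
    simp only [Finset.mem_coe, hD, Finset.mem_filter, Finset.mem_univ, true_and] at hw' ⊢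
    obtain ⟨⟨-, hwT'⟩, heq⟩ := hw'
    have hd : w + w' ∈ T := by
      have h1 : C.τ (t + w) • (C.τ w • x) = C.τ w • x := by
        have := C.smul_τ (C.τ w) t x
        rwa [C.τ_apply, htw, one_smul, show C.τ t • x = x from ht] at this
      rw [← heq] at h1
      have hz : (C.τ w').1 (t + w) ∈ T := by
        rw [hT, hmem]
        have := C.smul_τ (C.τ w') (t + w) (C.τ w' • x)
        rwa [C.τ_smul_smul, h1, C.τ_smul_smul] at this
      rw [C.τ_apply] at hz
      rcases C.zero_or_one (B (t + w) w') with hc | hc <;> rw [hc] at hz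
      · rw [zero_smul, add_zero] at hz
        exact absurd ((Submodule.add_mem_iff_right _ ht).1 hz) hnot
      · rw [one_smul, add_assoc] at hz
        exact (Submodule.add_mem_iff_right _ ht).1 hz
    refine ⟨hd, C.mem_perp.2 ((C.zero_or_one _).resolve_right fun h1 => ?_)⟩
    apply hnot
    rw [hT, hmem]
    have e : C.τ w' = C.τ w * C.τ (w + w') * C.τ w := by
      rw [C.τ_braid h1, ← add_assoc, C.add_self, zero_add]
    have h2 : C.τ (w + w') • C.τ w • x = x := by
      rw [e, mul_smul, mul_smul] at heq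
      exact smul_left_cancel _ heq
    have h3 := congrArg (fun z => C.τ (w + w') • z) h2
    simp only [C.τ_smul_smul] at h3
    exact h3.trans hd
  have hF : D.card ≤ 2 ^ (s - 1) * (Fx v).card := by
    refine le_trans (Finset.card_le_mul_card_image D _ hfib) (Nat.mul_le_mul_left _ (Finset.card_le_card ?_))
    intro y hy
    obtain ⟨w, hw, rfl⟩ := Finset.mem_image.1 hy
    have hvw : B v w = 0 := (Finset.mem_filter.1 hw).2.1
    refine Finset.mem_filter.2 ⟨Finset.mem_univ _, ?_⟩
    rw [smul_smul, C.τ_comm hvw, mul_smul, hvx]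
  -- the numbers do not fit
  set P := 2 ^ (m - 1) with hP
  set S := 2 ^ (s - 1) with hS
  set Q := 2 ^ (2 * m - s) with hQ
  have hs' : 2 ^ s = 2 * S := by
    rw [hS, ← pow_succ']; congr 1; omega
  have hQS : Q * S = 2 * (P * P) := by
    rw [hQ, hS, ← pow_add, ← f1]; congr 1; omega
  have hS2 : 2 ≤ S := le_trans (by norm_num) (Nat.pow_le_pow_right (by norm_num) (show 1 ≤ s - 1 by omega))
  have hSP : S ≤ P := Nat.pow_le_pow_right (by norm_num) (by omega)
  rw [f1] at hlt hD1
  rw [f0, hs'] at hcount
  set Fc := (Fx v).card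
  have h1 : 2 * Q ≤ 2 * (P * P) := hQS ▸ (mul_comm 2 Q ▸ Nat.mul_le_mul_left Q hS2)
  have h2 : P * P ≤ S * Fc := by omega
  obtain ⟨a, ha⟩ : ∃ a, 2 * S = a + 1 := ⟨2 * S - 1, by omega⟩
  obtain ⟨b, hb⟩ : ∃ b, 4 * (P * P) = b + 1 := ⟨4 * (P * P) - 1, by omega⟩
  rw [ha, hb, Nat.add_sub_cancel, Nat.add_sub_cancel] at hcount
  zify at hlt h2 hcount ha hb hS2 hSP hFpos f4
  set N : ℤ := (Nat.card Ω : ℤ)
  have hN0 : (0 : ℤ) ≤ N := Int.natCast_nonneg _
  have h3 : (b : ℤ) * ((P : ℤ) * P) ≤ (b : ℤ) * ((S : ℤ) * Fc) := mul_le_mul_of_nonneg_left h2 (Int.natCast_nonneg _)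
  have h4 : (S : ℤ) * a ≤ (P : ℤ) * (2 * P - 1) := mul_le_mul hSP (by linarith) (Int.natCast_nonneg _) (by linarith)
  have h5 : (S : ℤ) * a * N ≤ (P : ℤ) * (2 * P - 1) * N := mul_le_mul_of_nonneg_right h4 hN0
  have h6 : (P : ℤ) * (2 * P - 1) * N ≤ (P : ℤ) * (2 * P - 1) * (2 * ((P : ℤ) * P) - P) :=
    mul_le_mul_of_nonneg_left (by linarith) (mul_nonneg (by linarith) (by linarith))
  have h7 : (b : ℤ) * ((S : ℤ) * Fc) = (S : ℤ) * a * N := by linear_combination -(S : ℤ) * hcount
  have h8 : (0 : ℤ) < (P : ℤ) * P * (4 * P - 2) :=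
    mul_pos (mul_pos (by linarith) (by linarith)) (by linarith)
  have h9 : (b : ℤ) * ((P : ℤ) * P) - (P : ℤ) * (2 * P - 1) * (2 * ((P : ℤ) * P) - P) =
      (P : ℤ) * P * (4 * P - 2) := by linear_combination -((P : ℤ) * P) * hb
  linarith

end Cfsg.Lib.Linear.MinIndexSpTwo
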